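import Groth.Agent.Lefpen.H701.PairLin
import Groth.Agent.Lefpen.H702.Dict

/-!
# From closed points of the scheme to points of the charts

`P : c.At i x χ`:
* `P.mem_pow_iff`: `P.g a ∈ 𝔪_x ^ e ↔ a ∈ (ker χ) ^ e`;
* `P.span_t`: the functions `t_l - t_l(x)` generate `𝔪_x`;
* `P.exists_coords`: the classical coordinates of the point;
* `linearIndependent_of_ne`: different closed points have independent coordinate vectors.
-/

set_option autoImplicit false
universe u

open CategoryTheory AlgebraicGeometry Limits TopologicalSpace Opposite MvPolynomial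

namespace Groth.Agent.Lefpen.H701

open LefPen Groth.Agent.Lefpen.H705.SecIdeal Groth.Agent.Lefpen.H702.Dict Jet IsLocalRing

namespace EtChart

variable {k : Type u} [Field k] {r n : ℕ} {c : EtChart k r n} {X : Scheme.{u}}
  {i : X ⟶ CohB1.ProjSpace r k} {x : X} {χ : c.R →ₐ[k] k}

theorem isMaximal_ker (χ : c.R →ₐ[k] k) : (RingHom.ker χ).IsMaximal :=
  RingHom.ker_isMaximal_of_surjective χ fun a => ⟨algebraMap k c.R a, χ.commutes a⟩

theorem At.map_ker (P : c.At i x χ) :
    (RingHom.ker χ).map P.g = maximalIdeal (X.presheaf.stalk x) := by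
  let _ := P.g.toAlgebra
  have h1 := P.isLoc
  have h2 : (RingHom.ker χ).IsPrime := RingHom.ker_isPrime _
  exact IsLocalization.AtPrime.map_eq_maximalIdeal (RingHom.ker χ) (X.presheaf.stalk x)

theorem At.mem_pow_iff (P : c.At i x χ) (e : ℕ) (a : c.R) :
    P.g a ∈ maximalIdeal (X.presheaf.stalk x) ^ e ↔ a ∈ RingHom.ker χ ^ e := by
  rw [← P.map_ker, ← Ideal.map_pow]
  refine ⟨fun h => ?_, fun h => Ideal.mem_map_of_mem _ h⟩
  let _ := P.g.toAlgebra
  have h1 := P.isLoc
  have h2 : (RingHom.ker χ).IsPrime := RingHom.ker_isPrime _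
  have hmax := c.isMaximal_ker χ
  obtain ⟨⟨b, s⟩, hbs⟩ := (IsLocalization.mem_map_algebraMap_iff (RingHom.ker χ).primeCompl
    (X.presheaf.stalk x)).1 (show algebraMap c.R (X.presheaf.stalk x) a ∈
      (RingHom.ker χ ^ e).map (algebraMap c.R (X.presheaf.stalk x)) from h)
  rw [← map_mul] at hbs
  obtain ⟨t, ht⟩ := (IsLocalization.eq_iff_exists (RingHom.ker χ).primeCompl _).1 hbs
  have h3 : (t : c.R) * (a * s) ∈ RingHom.ker χ ^ e := by
    rw [ht]
    exact Ideal.mul_mem_left _ _ b.2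
  have h4 : ((t : c.R) * s) * a ∈ RingHom.ker χ ^ e := by
    convert h3 using 1
    ring
  have h5 : ((t : c.R) * s) ∉ RingHom.ker χ := fun h => (t * s).2 h
  rcases Nat.eq_zero_or_pos e with rfl | he
  · simp
  · have hprim : (RingHom.ker χ ^ e).IsPrimary := Ideal.isPrimary_of_isMaximal_radical (by
      rw [Ideal.radical_pow _ he.ne', h2.radical]
      exact hmax)
    have h6 : a * ((t : c.R) * s) ∈ RingHom.ker χ ^ e := by rwa [mul_comm]
    rcases (Ideal.isPrimary_iff.1 hprim).2 h6 with h7 | h7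
    · exact h7
    · rw [Ideal.radical_pow _ he.ne', h2.radical] at h7
      exact absurd h7 h5

theorem At.sing_iff (P : c.At i x χ) {d : ℕ} (H : Form r k d) :
    stalkEqn i c.j x P.hx H ∈ maximalIdeal (X.presheaf.stalk x) ^ 2 ↔ c.Sing χ H := by
  rw [← P.g_fn, P.mem_pow_iff, mem_ker_pow_iff _ _ (by norm_num)]
  rfl

/-- the local coordinates -/
noncomputable def tt (χ : c.R →ₐ[k] k) (l : Fin n) : c.R := co k c.R l - algebraMap k c.R (χ (co k c.R l))

theorem mon_eq (m : Fin n →₀ ℕ) : mon χ m = m.prod fun l e => tt χ l ^ e := rfl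

theorem tt_mem (l : Fin n) : tt χ l ∈ RingHom.ker χ := by
  rw [RingHom.mem_ker, tt, map_sub, AlgHom.commutes]
  simp

theorem ker_le : RingHom.ker χ ≤ Ideal.span (Set.range (tt χ)) ⊔ RingHom.ker χ ^ 2 := by
  intro a ha
  have h1 := taylor c.jet χ (by norm_num) c.jet_co c.red_jet a
  have h2 : ∑ m ∈ idx n 3, algebraMap k c.R (χ (tc (c.jet a) m)) * mon χ m ∈
      Ideal.span (Set.range (tt χ)) := by
    refine Ideal.sum_mem _ fun m hm => ?_
    by_cases h0 : m = 0
    · subst h0
      rw [← tay_apply _ (by simp), tay_zero, (show χ a = 0 from ha), map_zero, zero_mul]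
      exact Ideal.zero_mem _
    · obtain ⟨l, hl⟩ := Finsupp.ne_iff.1 h0
      apply Ideal.mul_mem_left
      rw [mon_eq, Finsupp.prod, ← Finset.mul_prod_erase _ _ (Finsupp.mem_support_iff.2 hl)]
      apply Ideal.mul_mem_right
      have hl' : tt χ l ∈ Ideal.span (Set.range (tt χ)) := Ideal.subset_span ⟨l, rfl⟩
      exact Ideal.pow_mem_of_mem _ hl' _ (Nat.pos_of_ne_zero hl)
  have h3 := Ideal.add_mem _ (Ideal.mem_sup_right (S := Ideal.span (Set.range (tt χ)))
    (Ideal.pow_le_pow_right (by norm_num : 2 ≤ 3) h1)) (Ideal.mem_sup_left (T := RingHom.ker χ ^ 2) h2)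
  simpa using h3

instance : IsNoetherianRing c.R := by
  have hft : Algebra.FiniteType k c.R :=
    Algebra.FiniteType.trans (S := MvPolynomial (Fin n) k) inferInstance inferInstance
  exact Algebra.FiniteType.isNoetherianRing k c.R

theorem At.span_t (P : c.At i x χ) :
    Ideal.span (Set.range fun l => P.g (tt χ l)) = maximalIdeal (X.presheaf.stalk x) := by
  have h0 : Ideal.span (Set.range fun l => P.g (tt χ l)) = (Ideal.span (Set.range (tt χ))).map P.g := by
    rw [Ideal.map_span, ← Set.range_comp]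
    rfl
  apply le_antisymm
  · rw [h0, ← P.map_ker]
    apply Ideal.map_mono
    rw [Ideal.span_le]
    rintro _ ⟨l, rfl⟩
    exact tt_mem l
  · refine Submodule.le_of_le_smul_of_le_jacobson_bot (I := maximalIdeal (X.presheaf.stalk x)) ?_ ?_ ?_
    · rw [← P.map_ker]
      exact Ideal.FG.map (IsNoetherian.noetherian (RingHom.ker χ)) _
    · rw [IsLocalRing.jacobson_eq_maximalIdeal _ bot_ne_top]
    · rw [smul_eq_mul, ← pow_two, h0, ← P.map_ker, ← Ideal.map_pow, ← Ideal.map_sup]
      exact Ideal.map_mono ker_le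

theorem At.exists_coords [IsClosedImmersion i] [IsAlgClosed k] (P : c.At i x χ) (hxc : IsClosed ({x} : Set X)) :
    ∃ a : Fin r → k, IsCoords i c.j x P.hx a ∧ homCoords c.j a = c.v χ := by
  obtain ⟨a, ha, -⟩ := exists_isCoords i c.j x P.hx hxc
  refine ⟨a, ha, ?_⟩
  funext m
  let G : Form r k 1 := Xform r k m - c.v χ m • Xform r k c.j
  have hG : ∀ v : Fin (r + 1) → k, eval v G.1 = v m - c.v χ m * v c.j := by
    intro v
    change eval v (MvPolynomial.X m - c.v χ m • MvPolynomial.X c.j) = _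
    rw [map_sub, smul_eq_C_mul, map_mul, eval_X, eval_C, eval_X]
  have h1 : stalkEqn i c.j x P.hx G ∈ maximalIdeal (X.presheaf.stalk x) := by
    rw [← P.g_fn]
    have h2 := (P.mem_pow_iff 1 (c.fn G)).2
    rw [pow_one, pow_one] at h2
    apply h2
    rw [RingHom.mem_ker, fn_apply, χ_aeval, MvPolynomial.aeval_eq_eval]
    change eval (c.v χ) G.1 = 0
    rw [hG, v, v, c.u_j, map_one, mul_one, sub_self]
  rw [ha.stalkEqn_mem_iff, hG, homCoords_self, mul_one, sub_eq_zero] at h1
  exact h1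

theorem linearIndependent_of_ne [IsClosedImmersion i] [IsAlgClosed k] {c' : EtChart k r n} {y : X}
    {χ' : c'.R →ₐ[k] k} (P : c.At i x χ) (P' : c'.At i y χ') (hxc : IsClosed ({x} : Set X))
    (hyc : IsClosed ({y} : Set X)) (hxy : x ≠ y) : LinearIndependent k ![c.v χ, c'.v χ'] := by
  obtain ⟨a, ha, ha'⟩ := P.exists_coords hxc
  obtain ⟨b, hb, hb'⟩ := P'.exists_coords hyc
  obtain ⟨m, m', h⟩ := exists_minor_ne_zero i hyc ha hb hxy
  rw [ha', hb'] at h
  rw [LinearIndependent.pair_iff]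
  intro s t hst
  have h1 : s * c.v χ m + t * c'.v χ' m = 0 := congrFun hst m
  have h2 : s * c.v χ m' + t * c'.v χ' m' = 0 := congrFun hst m'
  have h3 : s * (c.v χ m * c'.v χ' m' - c.v χ m' * c'.v χ' m) = 0 := by
    linear_combination c'.v χ' m' * h1 - c'.v χ' m * h2
  have h4 : t * (c.v χ m * c'.v χ' m' - c.v χ m' * c'.v χ' m) = 0 := by
    linear_combination c.v χ m * h2 - c.v χ m' * h1
  exact ⟨(mul_eq_zero.1 h3).resolve_right h, (mul_eq_zero.1 h4).resolve_right h⟩

end EtChart

end Groth.Agent.Lefpen.H701
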