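import Mathlib.RingTheory.MvPolynomial.Ideal
import Mathlib.RingTheory.Etale.Basic
import Mathlib.RingTheory.Ideal.Quotient.Operations

/-!
# Truncated Taylor expansions on étale algebras over a polynomial ring
-/

set_option autoImplicit false

universe u v

namespace Groth.Agent.Lefpen.H701.Jet

open MvPolynomial

/-- truncated polynomials -/
abbrev T (n N : ℕ) (S : Type*) [CommRing S] := MvPolynomial (Fin n) S ⧸ (idealOfVars (Fin n) S ^ N)

section Coeff

variable {n N : ℕ} {S : Type*} [CommRing S]

/-- coefficient of a truncated polynomial -/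
noncomputable def tc (x : T n N S) (m : Fin n →₀ ℕ) : S := 
  coeff m (Ideal.Quotient.mk_surjective x).choose

theorem tc_mk (p : MvPolynomial (Fin n) S) (m : Fin n →₀ ℕ) (hm : m.degree < N) :
    tc (Ideal.Quotient.mk _ p : T n N S) m = coeff m p := by
  have h1 := (Ideal.Quotient.mk_surjective (Ideal.Quotient.mk (idealOfVars (Fin n) S ^ N) p)).choose_spec
  rw [Ideal.Quotient.eq, mem_pow_idealOfVars_iff'] at h1
  have h2 := h1 m hm
  rw [coeff_sub, sub_eq_zero] at h2
  exact h2

theorem tc_add (x y : T n N S) (m : Fin n →₀ ℕ) (hm : m.degree < N) :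
    tc (x + y) m = tc x m + tc y m := by
  obtain ⟨p, rfl⟩ := Ideal.Quotient.mk_surjective x
  obtain ⟨q, rfl⟩ := Ideal.Quotient.mk_surjective y
  rw [← map_add, tc_mk _ _ hm, tc_mk _ _ hm, tc_mk _ _ hm, coeff_add]

theorem tc_C_mul (a : S) (y : T n N S) (m : Fin n →₀ ℕ) (hm : m.degree < N) :
    tc (Ideal.Quotient.mk _ (C a) * y) m = a * tc y m := by
  obtain ⟨q, rfl⟩ := Ideal.Quotient.mk_surjective y
  rw [← map_mul, tc_mk _ _ hm, tc_mk _ _ hm, coeff_C_mul]

theorem tc_ext {x y : T n N S} (h : ∀ m : Fin n →₀ ℕ, m.degree < N → tc x m = tc y m) : x = y := by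
  obtain ⟨p, rfl⟩ := Ideal.Quotient.mk_surjective x
  obtain ⟨q, rfl⟩ := Ideal.Quotient.mk_surjective y
  rw [Ideal.Quotient.eq, mem_pow_idealOfVars_iff']
  intro m hm
  have := h m hm
  rw [tc_mk _ _ hm, tc_mk _ _ hm] at this
  rw [coeff_sub, this, sub_self]

end Coeff

section Lift

variable {k : Type u} [CommRing k] {R : Type v} [CommRing R] [Algebra k R] {n : ℕ}
  [Algebra (MvPolynomial (Fin n) k) R] [IsScalarTower k (MvPolynomial (Fin n) k) R]

/-- reduction to the constant coefficient -/
noncomputable def red (n N : ℕ) (S : Type*) [CommRing S] (hN : N ≠ 0) : T n N S →ₐ[S] S :=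
  Ideal.Quotient.liftₐ _ (aeval (fun _ => (0 : S)) : MvPolynomial (Fin n) S →ₐ[S] S) (by
    intro p hp
    have h1 : p ∈ idealOfVars (Fin n) S := Ideal.pow_le_self hN hp
    have h2 : idealOfVars (Fin n) S ≤ RingHom.ker (aeval (fun _ => (0 : S)) : MvPolynomial (Fin n) S →ₐ[S] S) := by
      rw [idealOfVars, Ideal.span_le]
      rintro _ ⟨i, rfl⟩
      simp
    exact h2 h1)

theorem red_mk (N : ℕ) (S : Type*) [CommRing S] (hN : N ≠ 0) (p : MvPolynomial (Fin n) S) :
    red n N S hN (Ideal.Quotient.mk _ p) = aeval (fun _ => (0 : S)) p := rfl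

theorem red_surjective (N : ℕ) (S : Type*) [CommRing S] (hN : N ≠ 0) :
    Function.Surjective (red n N S hN) := fun a =>
  ⟨Ideal.Quotient.mk _ (C a), by rw [red_mk]; simp⟩

theorem ker_red (N : ℕ) (S : Type*) [CommRing S] (hN : N ≠ 0) (x : T n N S)
    (hx : red n N S hN x = 0) : x ∈ (idealOfVars (Fin n) S).map (Ideal.Quotient.mk (idealOfVars (Fin n) S ^ N)) := by
  obtain ⟨p, rfl⟩ := Ideal.Quotient.mk_surjective x
  rw [red_mk] at hx
  apply Ideal.mem_map_of_mem
  have h1 : p ∈ idealOfVars (Fin n) S ^ 1 := by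
    rw [mem_pow_idealOfVars_iff']
    intro m hm
    have hm0 : m = 0 := by
      rwa [Nat.lt_one_iff, Finsupp.degree_eq_zero_iff] at hm
    subst hm0
    have h2 : aeval (fun _ => (0 : S)) p = constantCoeff p := by
      rw [MvPolynomial.aeval_def, MvPolynomial.eval₂_eq_eval_map]
      simp
    rw [h2] at hx
    simpa [constantCoeff_eq] using hx
  simpa using h1

theorem red_eq_tc (N : ℕ) (S : Type*) [CommRing S] (hN : N ≠ 0) (x : T n N S) :
    red n N S hN x = tc x 0 := by
  obtain ⟨p, rfl⟩ := Ideal.Quotient.mk_surjective x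
  rw [red_mk, tc_mk _ _ (by simpa using Nat.pos_of_ne_zero hN)]
  rw [MvPolynomial.aeval_def, MvPolynomial.eval₂_eq_eval_map]
  simp [constantCoeff_eq]

theorem isNilpotent_ker_red (N : ℕ) (S : Type*) [CommRing S] (hN : N ≠ 0) :
    IsNilpotent (RingHom.ker (red n N S hN)) := by
  refine ⟨N, ?_⟩
  have h1 : RingHom.ker (red n N S hN) ≤ (idealOfVars (Fin n) S).map
      (Ideal.Quotient.mk (idealOfVars (Fin n) S ^ N)) := fun x hx => ker_red N S hN x hx
  have h2 := Ideal.pow_right_mono h1 N
  rw [← Ideal.map_pow, Ideal.map_quotient_self] at h2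
  exact le_bot_iff.1 h2

/-- **Taylor expansion.** -/
theorem exists_jet [Algebra.FormallySmooth (MvPolynomial (Fin n) k) R] (N : ℕ) (hN : N ≠ 0) :
    ∃ j : R →ₐ[k] T n N R, (∀ i, j (algebraMap (MvPolynomial (Fin n) k) R (X i)) =
        Ideal.Quotient.mk _ (C (algebraMap (MvPolynomial (Fin n) k) R (X i)) + X i)) ∧
      ∀ a, red n N R hN (j a) = a := by
  let P := MvPolynomial (Fin n) k
  let ρ : P →ₐ[k] T n N R := aeval (fun i => Ideal.Quotient.mk _ (C (algebraMap P R (X i)) + X i))
  letI : Algebra P (T n N R) := ρ.toRingHom.toAlgebra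
  have hρ : ∀ p, algebraMap P (T n N R) p = ρ p := fun p => rfl
  have hredρ : ∀ p : P, red n N R hN (ρ p) = algebraMap P R p := by
    intro p
    have h1 : ((red n N R hN).restrictScalars k).comp ρ = IsScalarTower.toAlgHom k P R := by
      apply MvPolynomial.algHom_ext
      intro i
      simp only [AlgHom.comp_apply, ρ, aeval_X]
      change red n N R hN (Ideal.Quotient.mk _ (C (algebraMap P R (X i)) + X i)) = _
      rw [red_mk]
      simp
      rfl
    exact AlgHom.congr_fun h1 p
  let g : T n N R →ₐ[P] R :=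
    { toRingHom := (red n N R hN).toRingHom
      commutes' := fun p => hredρ p }
  have hg : Function.Surjective g := red_surjective N R hN
  have hnil : IsNilpotent (RingHom.ker (g : T n N R →+* R)) := isNilpotent_ker_red N R hN
  let j := Algebra.FormallySmooth.liftOfSurjective (AlgHom.id P R) g hg hnil
  refine ⟨{ toRingHom := j.toRingHom, commutes' := fun c => ?_ }, fun i => ?_, fun a => ?_⟩
  · change j (algebraMap k R c) = _
    have h2 : algebraMap k R c = algebraMap P R (C c) := by
      rw [IsScalarTower.algebraMap_apply k P R]; rfl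
    rw [h2, j.commutes, hρ]
    exact ρ.commutes c
  · change j (algebraMap P R (X i)) = _
    rw [j.commutes, hρ]
    exact aeval_X _ _
  · exact Algebra.FormallySmooth.liftOfSurjective_apply (AlgHom.id P R) g hg hnil a

end Lift

section Point

variable {k : Type u} [CommRing k] {R : Type v} [CommRing R] [Algebra k R] {n : ℕ}
  [Algebra (MvPolynomial (Fin n) k) R] [IsScalarTower k (MvPolynomial (Fin n) k) R]

/-- change of scalars for truncated polynomials -/
noncomputable def tmap {S S' : Type*} [CommRing S] [CommRing S'] (n N : ℕ) (f : S →+* S') :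
    T n N S →+* T n N S' :=
  Ideal.quotientMap _ (MvPolynomial.map f) (by
    intro p hp
    rw [Ideal.mem_comap, mem_pow_idealOfVars_iff']
    rw [mem_pow_idealOfVars_iff'] at hp
    intro m hm
    rw [coeff_map, hp m hm, map_zero])

theorem tmap_mk {S S' : Type*} [CommRing S] [CommRing S'] (N : ℕ) (f : S →+* S')
    (p : MvPolynomial (Fin n) S) : tmap n N f (Ideal.Quotient.mk _ p) = Ideal.Quotient.mk _ (MvPolynomial.map f p) :=
  rfl

theorem tc_tmap {S S' : Type*} [CommRing S] [CommRing S'] (N : ℕ) (f : S →+* S') (x : T n N S)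
    (m : Fin n →₀ ℕ) (hm : m.degree < N) : tc (tmap n N f x) m = f (tc x m) := by
  obtain ⟨p, rfl⟩ := Ideal.Quotient.mk_surjective x
  rw [tmap_mk, tc_mk _ _ hm, tc_mk _ _ hm, coeff_map]

/-- the multi-indices of degree `< N` -/
noncomputable def idx (n N : ℕ) : Finset (Fin n →₀ ℕ) :=
  (Finset.range N).biUnion fun e => (Finset.univ : Finset (Fin n)).finsuppAntidiag e

theorem mem_idx {n N : ℕ} {m : Fin n →₀ ℕ} : m ∈ idx n N ↔ m.degree < N := by
  unfold idx
  simp [Finset.mem_finsuppAntidiag, Finsupp.degree_eq_sum]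

/-- the `i`-th coordinate -/
noncomputable def co (k : Type u) [CommRing k] (R : Type v) [CommRing R] {n : ℕ}
    [Algebra (MvPolynomial (Fin n) k) R] (i : Fin n) : R := algebraMap (MvPolynomial (Fin n) k) R (X i)

variable {N : ℕ} (j : R →ₐ[k] T n N R) (χ : R →ₐ[k] k)

/-- the monomial `(t - t(χ))^m` -/
noncomputable def mon (m : Fin n →₀ ℕ) : R :=
  m.prod fun i e => (co k R i - algebraMap k R (χ (co k R i))) ^ e

theorem taylor [Algebra.FormallyUnramified (MvPolynomial (Fin n) k) R] (hN : N ≠ 0)
    (hj : ∀ i, j (co k R i) = Ideal.Quotient.mk _ (C (co k R i) + X i))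
    (hred : ∀ a, red n N R hN (j a) = a) (a : R) :
    a - ∑ m ∈ idx n N, algebraMap k R (χ (tc (j a) m)) * mon χ m ∈ (RingHom.ker χ) ^ N := by
  let P := MvPolynomial (Fin n) k
  let Q := R ⧸ (RingHom.ker χ) ^ N
  let ev : MvPolynomial (Fin n) R →+* Q := eval₂Hom ((algebraMap k Q).comp χ.toRingHom)
    (fun i => Ideal.Quotient.mk _ (co k R i - algebraMap k R (χ (co k R i))))
  let s : T n N R →+* Q := Ideal.Quotient.lift _ ev (by
    intro p hp
    have h1 : idealOfVars (Fin n) R ≤ Ideal.comap ev ((RingHom.ker χ).map (Ideal.Quotient.mk ((RingHom.ker χ) ^ N))) := by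
      rw [idealOfVars, Ideal.span_le]
      rintro _ ⟨i, rfl⟩
      rw [SetLike.mem_coe, Ideal.mem_comap]
      have : ev (X i) = Ideal.Quotient.mk _ (co k R i - algebraMap k R (χ (co k R i))) := by
        simp [ev]
      rw [this]
      apply Ideal.mem_map_of_mem
      rw [RingHom.mem_ker, map_sub, AlgHom.commutes]
      simp
    have h2 : p ∈ (Ideal.comap ev ((RingHom.ker χ).map (Ideal.Quotient.mk ((RingHom.ker χ) ^ N)))) ^ N :=
      Ideal.pow_right_mono h1 N hp
    have h3 := Ideal.le_comap_pow ev N h2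
    rw [Ideal.mem_comap, ← Ideal.map_pow, Ideal.map_quotient_self] at h3
    exact h3)
  have hs : ∀ p, s (Ideal.Quotient.mk _ p) = ev p := fun p => rfl
  let g₁ : R →ₐ[P] Q := IsScalarTower.toAlgHom P R Q
  have hcomm : ∀ p : P, s (j (algebraMap P R p)) = algebraMap P Q p := by
    intro p
    have h1 : (s.comp j.toRingHom).comp (algebraMap P R) = algebraMap P Q := by
      apply MvPolynomial.ringHom_ext
      · intro c
        change s (j (algebraMap P R (C c))) = algebraMap P Q (C c)
        have h2 : algebraMap k R c = algebraMap P R (C c) := by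
          rw [IsScalarTower.algebraMap_apply k P R]; rfl
        rw [← h2, AlgHom.commutes]
        have h3 : algebraMap k (T n N R) c = Ideal.Quotient.mk _ (C (algebraMap k R c)) := rfl
        rw [h3, hs]
        have h4 : algebraMap P Q (C c) = algebraMap k Q c := by
          rw [IsScalarTower.algebraMap_apply k P Q]; rfl
        rw [h4]
        simp [ev]
      · intro i
        change s (j (co k R i)) = algebraMap P Q (X i)
        rw [hj, hs, map_add]
        have h5 : ev (C (co k R i)) = algebraMap k Q (χ (co k R i)) := by simp [ev]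
        have h6 : ev (X i) = Ideal.Quotient.mk _ (co k R i - algebraMap k R (χ (co k R i))) := by
          simp [ev]
        rw [h5, h6, map_sub]
        change algebraMap k Q (χ (co k R i)) + (Ideal.Quotient.mk _ (co k R i) - algebraMap k Q (χ (co k R i))) = _
        rw [add_sub_cancel]
        rfl
    exact RingHom.congr_fun h1 p
  let g₂ : R →ₐ[P] Q :=
    { toRingHom := s.comp j.toRingHom
      commutes' := hcomm }
  let f : Q →+* k := Ideal.Quotient.lift _ χ.toRingHom (by
    intro x hx
    have : x ∈ RingHom.ker χ := Ideal.pow_le_self hN hx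
    exact this)
  have hf : ∀ x, f (Ideal.Quotient.mk _ x) = χ x := fun x => rfl
  have hker : IsNilpotent (RingHom.ker f) := by
    refine ⟨N, ?_⟩
    have h1 : RingHom.ker f ≤ (RingHom.ker χ).map (Ideal.Quotient.mk ((RingHom.ker χ) ^ N)) := by
      intro x hx
      obtain ⟨x, rfl⟩ := Ideal.Quotient.mk_surjective x
      exact Ideal.mem_map_of_mem _ hx
    have h2 := Ideal.pow_right_mono h1 N
    rw [← Ideal.map_pow, Ideal.map_quotient_self] at h2
    exact le_bot_iff.1 h2
  have hfs : ∀ y : T n N R, f (s y) = χ (red n N R hN y) := by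
    intro y
    obtain ⟨p, rfl⟩ := Ideal.Quotient.mk_surjective y
    rw [hs, red_mk]
    have h1 : f.comp ev = χ.toRingHom.comp (aeval (fun _ => (0 : R)) : MvPolynomial (Fin n) R →ₐ[R] R).toRingHom := by
      apply MvPolynomial.ringHom_ext
      · intro c
        have h5 : ev (C c) = algebraMap k Q (χ c) := by simp [ev]
        change f (ev (C c)) = χ (aeval (fun _ => (0 : R)) (C c))
        rw [h5, aeval_C]
        change f (Ideal.Quotient.mk _ (algebraMap k R (χ c))) = _
        rw [hf, AlgHom.commutes]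
        simp
      · intro i
        change f (ev (X i)) = χ (aeval (fun _ => (0 : R)) (X i))
        have h6 : ev (X i) = Ideal.Quotient.mk _ (co k R i - algebraMap k R (χ (co k R i))) := by
          simp [ev]
        rw [h6, hf, aeval_X, map_zero, map_sub, AlgHom.commutes]
        simp
    exact RingHom.congr_fun h1 p
  have heq : g₁ = g₂ := by
    apply Algebra.FormallyUnramified.ext' f hker
    intro x
    change f (Ideal.Quotient.mk _ x) = f (s (j x))
    rw [hf, hfs, hred]
  have h7 : (Ideal.Quotient.mk _ a : Q) = s (j a) := AlgHom.congr_fun heq a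
  obtain ⟨p, hp⟩ := Ideal.Quotient.mk_surjective (j a)
  rw [← Ideal.Quotient.mk_eq_mk_iff_sub_mem, h7, ← hp, hs]
  have h8 : ev p = ∑ m ∈ idx n N, algebraMap k Q (χ (coeff m p)) * (Ideal.Quotient.mk _ (mon χ m)) := by
    have h9 : ev p = ∑ m ∈ p.support, algebraMap k Q (χ (coeff m p)) * (Ideal.Quotient.mk _ (mon χ m)) := by
      simp only [ev, coe_eval₂Hom, eval₂_eq]
      refine Finset.sum_congr rfl fun m _ => ?_
      congr 1
      rw [mon, Finsupp.prod, map_prod]
      refine Finset.prod_congr rfl fun i _ => ?_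
      rw [map_pow]
    rw [h9]
    have hmon : ∀ m : Fin n →₀ ℕ, m ∉ idx n N → (Ideal.Quotient.mk ((RingHom.ker χ) ^ N)) (mon χ m) = 0 := by
      intro m hm
      rw [mem_idx, not_lt] at hm
      rw [Ideal.Quotient.eq_zero_iff_mem]
      have h10 : mon χ m ∈ (RingHom.ker χ) ^ m.degree := by
        rw [mon, Finsupp.prod, Finsupp.degree_apply, ← Finset.prod_pow_eq_pow_sum]
        refine Ideal.prod_mem_prod fun i _ => ?_
        apply Ideal.pow_mem_pow
        rw [RingHom.mem_ker, map_sub, AlgHom.commutes]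
        simp
      exact Ideal.pow_le_pow_right hm h10
    rw [← Finset.sum_subset_zero_on_sdiff (s₁ := p.support ∩ idx n N) (s₂ := p.support)
      Finset.inter_subset_left (fun m hm => ?_) (fun m _ => rfl)]
    · refine Finset.sum_subset_zero_on_sdiff Finset.inter_subset_right (fun m hm => ?_) (fun m _ => rfl)
      simp only [Finset.mem_sdiff, Finset.mem_inter, not_and] at hm
      have h11 : m ∉ p.support := fun h => hm.2 h hm.1
      rw [notMem_support_iff] at h11
      rw [h11]; simp
    · simp only [Finset.mem_sdiff, Finset.mem_inter, not_and] at hm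
      rw [hmon m (hm.2 hm.1), mul_zero]
  rw [h8, map_sum]
  refine Finset.sum_congr rfl fun m hm => ?_
  rw [tc_mk _ _ (mem_idx.1 hm), map_mul]
  rfl

omit [Algebra (MvPolynomial (Fin n) k) R] [IsScalarTower k (MvPolynomial (Fin n) k) R] in
/-- functions vanishing to order `a` have vanishing coefficients of degree `< a`. -/
theorem tc_eq_zero_of_mem_pow (hN : N ≠ 0) (hred : ∀ a, red n N R hN (j a) = a) {a : ℕ} {h : R}
    (hh : h ∈ (RingHom.ker χ) ^ a) (m : Fin n →₀ ℕ) (hma : m.degree < a) (hmN : m.degree < N) :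
    χ (tc (j h) m) = 0 := by
  let E : R →+* T n N k := (tmap n N χ.toRingHom).comp j.toRingHom
  have hE : ∀ x, tc (E x) m = χ (tc (j x) m) := fun x => tc_tmap N χ.toRingHom (j x) m hmN
  have h1 : RingHom.ker χ ≤ Ideal.comap E ((idealOfVars (Fin n) k).map (Ideal.Quotient.mk (idealOfVars (Fin n) k ^ N))) := by
    intro x hx
    rw [Ideal.mem_comap]
    apply ker_red N k hN
    rw [red_eq_tc]
    change tc (tmap n N χ.toRingHom (j x)) 0 = 0
    rw [tc_tmap N χ.toRingHom (j x) 0 (by simpa using Nat.pos_of_ne_zero hN), ← red_eq_tc N R hN, hred]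
    exact hx
  have h2 := Ideal.le_comap_pow E a (Ideal.pow_right_mono h1 a hh)
  rw [Ideal.mem_comap, ← Ideal.map_pow] at h2
  obtain ⟨p, hp, hp'⟩ := (Ideal.mem_map_iff_of_surjective _ Ideal.Quotient.mk_surjective).1 h2
  rw [← hE, ← hp', tc_mk _ _ hmN]
  exact (mem_pow_idealOfVars_iff' a p).1 hp m hma

end Point

end Groth.Agent.Lefpen.H701.Jet
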