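import Groth.Agent.Lefpen.H701.EtChart
import Groth.Agent.Lefpen.H701.Jet
import Mathlib.RingTheory.MvPolynomial.EulerIdentity

/-!
# Jets of forms on an étale chart

`c : EtChart k r n`, `χ` a `k`-point of the chart.
* `tay c m : R →ₗ[k] R`, the coefficient of `δ^m` (`|m| < 3`) in the Taylor expansion;
* `mem_ker_pow_iff`: vanishing to order `e ≤ 3` at `χ`;
* `exists_form`: forms of degree `d ≥ e` generate `R / (ker χ)^(e+1)`;
* `exists_form_tay`: forms of degree `d ≥ 2` have arbitrary `2`-jets at `χ`, `exists_form_tay_one` for `d ≥ 1` and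
  `1`-jets;
* `v`, `W`: homogeneous coordinates of the point and the cone over the embedded tangent space;
* `mem_ker_tangLin_iff`, `finrank_W`.
-/

set_option autoImplicit false
universe u

open MvPolynomial

namespace Groth.Agent.Lefpen.H701

open LefPen Jet

namespace EtChart

variable {k : Type u} [Field k] {r n : ℕ} (c : EtChart k r n)

theorem exists_jet3 : ∃ j : c.R →ₐ[k] T n 3 c.R,
    (∀ i, j (co k c.R i) = Ideal.Quotient.mk _ (C (co k c.R i) + X i)) ∧
    ∀ a, red n 3 c.R (by norm_num) (j a) = a :=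
  Jet.exists_jet 3 _

/-- the Taylor expansion map -/
noncomputable def jet : c.R →ₐ[k] T n 3 c.R := c.exists_jet3.choose

theorem jet_co (i : Fin n) : c.jet (co k c.R i) = Ideal.Quotient.mk _ (C (co k c.R i) + X i) :=
  c.exists_jet3.choose_spec.1 i

theorem red_jet (a : c.R) : red n 3 c.R (by norm_num) (c.jet a) = a :=
  c.exists_jet3.choose_spec.2 a

/-- Taylor coefficients -/
noncomputable def tay (m : Fin n →₀ ℕ) : c.R →ₗ[k] c.R := 
  if h : m.degree < 3 then
    { toFun := fun a => tc (c.jet a) m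
      map_add' := fun a b => by rw [map_add, tc_add _ _ _ h]
      map_smul' := fun a b => by
        rw [Algebra.smul_def, map_mul, AlgHom.commutes]
        change tc (Ideal.Quotient.mk _ (C (algebraMap k c.R a)) * _) m = _
        rw [tc_C_mul _ _ _ h, RingHom.id_apply, Algebra.smul_def] }
  else 0

theorem tay_apply {m : Fin n →₀ ℕ} (h : m.degree < 3) (a : c.R) : c.tay m a = tc (c.jet a) m := by
  rw [tay, dif_pos h]; rfl

theorem tay_zero (a : c.R) : c.tay 0 a = a := by
  rw [tay_apply _ (by simp), ← red_eq_tc 3 c.R (by norm_num), red_jet]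

theorem degree_single_one (l : Fin n) : (Finsupp.single l 1 : Fin n →₀ ℕ).degree = 1 := by
  simp

theorem tc_single_mul (l : Fin n) (x y : T n 3 c.R) :
    tc (x * y) (Finsupp.single l 1) = tc x 0 * tc y (Finsupp.single l 1) +
      tc x (Finsupp.single l 1) * tc y 0 := by
  classical
  obtain ⟨p, rfl⟩ := Ideal.Quotient.mk_surjective x
  obtain ⟨q, rfl⟩ := Ideal.Quotient.mk_surjective y
  have h1 : (Finsupp.single l 1 : Fin n →₀ ℕ).degree < 3 := by rw [degree_single_one]; norm_num
  have h0 : (0 : Fin n →₀ ℕ).degree < 3 := by simp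
  rw [← map_mul, tc_mk _ _ h1, tc_mk _ _ h1, tc_mk _ _ h1, tc_mk _ _ h0, tc_mk _ _ h0, coeff_mul]
  rw [Finsupp.antidiagonal_single]
  simp [Finset.Nat.antidiagonal_succ]

theorem tay_single_mul (l : Fin n) (a b : c.R) :
    c.tay (Finsupp.single l 1) (a * b) = a * c.tay (Finsupp.single l 1) b +
      c.tay (Finsupp.single l 1) a * b := by
  have h1 : (Finsupp.single l 1 : Fin n →₀ ℕ).degree < 3 := by rw [degree_single_one]; norm_num
  have h0 : ∀ a : c.R, tc (c.jet a) 0 = a := by
    intro a
    rw [← tay_apply _ (by simp), tay_zero]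
  rw [tay_apply _ h1, tay_apply _ h1, tay_apply _ h1, map_mul, tc_single_mul, h0, h0]

theorem tay_single_algebraMap (l : Fin n) (a : k) :
    c.tay (Finsupp.single l 1) (algebraMap k c.R a) = 0 := by
  have h2 : c.tay (Finsupp.single l 1) 1 = 0 := by
    have := c.tay_single_mul l 1 1
    simpa using this
  rw [Algebra.algebraMap_eq_smul_one, map_smul, h2, smul_zero]

theorem tay_single_aeval (l : Fin n) (p : MvPolynomial (Fin (r + 1)) k) :
    c.tay (Finsupp.single l 1) (aeval c.u p) =
      ∑ m, aeval c.u (pderiv m p) * c.tay (Finsupp.single l 1) (c.u m) := by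
  classical
  induction p using MvPolynomial.induction_on with
  | C a =>
    simp [tay_single_algebraMap]
  | add p q hp hq =>
    simp only [map_add, hp, hq, add_mul, Finset.sum_add_distrib]
  | mul_X p m hp =>
    rw [map_mul, aeval_X, tay_single_mul, hp]
    simp only [Derivation.leibniz, smul_eq_mul, map_add, map_mul, aeval_X, add_mul,
      Finset.sum_add_distrib]
    congr 1
    · rw [Finset.sum_eq_single m]
      · simp
      · intro b _ hb
        rw [pderiv_X_of_ne hb.symm]; simp
      · intro h; exact absurd (Finset.mem_univ _) h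
    · rw [Finset.sum_mul]
      refine Finset.sum_congr rfl fun b _ => ?_
      ring

section Point

variable (χ : c.R →ₐ[k] k)

theorem mem_ker_pow_iff {e : ℕ} (he : e ≤ 3) (a : c.R) :
    a ∈ RingHom.ker χ ^ e ↔ ∀ m : Fin n →₀ ℕ, m.degree < e → χ (c.tay m a) = 0 := by
  constructor
  · intro ha m hm
    rw [tay_apply _ (hm.trans_le he)]
    exact tc_eq_zero_of_mem_pow c.jet χ (by norm_num) c.red_jet ha m hm (hm.trans_le he)
  · intro h
    have h1 := taylor c.jet χ (by norm_num) c.jet_co c.red_jet a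
    have h2 : ∑ m ∈ idx n 3, algebraMap k c.R (χ (tc (c.jet a) m)) * mon χ m ∈ RingHom.ker χ ^ e := by
      refine Ideal.sum_mem _ fun m hm => ?_
      rw [mem_idx] at hm
      by_cases hme : m.degree < e
      · rw [← tay_apply _ hm, h m hme]
        simp
      · apply Ideal.mul_mem_left
        have h10 : mon χ m ∈ (RingHom.ker χ) ^ m.degree := by
          rw [mon, Finsupp.prod, Finsupp.degree_apply, ← Finset.prod_pow_eq_pow_sum]
          refine Ideal.prod_mem_prod fun i _ => ?_
          apply Ideal.pow_mem_pow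
          rw [RingHom.mem_ker, map_sub, AlgHom.commutes]
          simp
        exact Ideal.pow_le_pow_right (not_lt.1 hme) h10
    have h3 := Ideal.add_mem _ (Ideal.pow_le_pow_right he h1) h2
    simpa using h3

/-- functions with given Taylor coefficients -/
theorem exists_tay (z : (Fin n →₀ ℕ) → k) : ∃ a : c.R, ∀ m : Fin n →₀ ℕ, m.degree < 3 →
    χ (c.tay m a) = z m := by
  classical
  refine ⟨∑ m ∈ idx n 3, algebraMap k c.R (z m) * mon χ m, fun m hm => ?_⟩
  have h1 : ∀ m' : Fin n →₀ ℕ, χ (c.tay m (mon χ m')) = if m' = m then 1 else 0 := by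
    intro m'
    rw [tay_apply _ hm]
    change χ.toRingHom (tc (c.jet (mon χ m')) m) = _
    rw [← tc_tmap 3 χ.toRingHom _ _ hm]
    have h2 : (tmap n 3 χ.toRingHom).comp (c.jet : c.R →+* T n 3 c.R) (mon χ m') =
        Ideal.Quotient.mk _ (monomial m' 1) := by
      rw [mon, Finsupp.prod, map_prod]
      have h3 : ∀ i, (tmap n 3 χ.toRingHom).comp (c.jet : c.R →+* T n 3 c.R)
          (co k c.R i - algebraMap k c.R (χ (co k c.R i))) = Ideal.Quotient.mk _ (X i) := by
        intro i
        rw [map_sub]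
        have h4 : (tmap n 3 χ.toRingHom).comp (c.jet : c.R →+* T n 3 c.R) (co k c.R i) =
            Ideal.Quotient.mk _ (C (χ (co k c.R i)) + X i) := by
          change tmap n 3 χ.toRingHom (c.jet (co k c.R i)) = _
          rw [jet_co, tmap_mk, map_add, map_C, map_X]
          rfl
        have h5 : (tmap n 3 χ.toRingHom).comp (c.jet : c.R →+* T n 3 c.R)
            (algebraMap k c.R (χ (co k c.R i))) = Ideal.Quotient.mk _ (C (χ (co k c.R i))) := by
          change tmap n 3 χ.toRingHom (c.jet (algebraMap k c.R (χ (co k c.R i)))) = _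
          rw [AlgHom.commutes]
          change tmap n 3 χ.toRingHom (Ideal.Quotient.mk _ (C (algebraMap k c.R (χ (co k c.R i))))) = _
          rw [tmap_mk, map_C]
          congr 2
          exact χ.commutes _
        rw [h4, h5, ← map_sub, add_sub_cancel_left]
      simp only [map_pow, h3]
      rw [monomial_eq, map_one, one_mul, Finsupp.prod, map_prod]
      simp only [map_pow]
    change tc ((tmap n 3 χ.toRingHom).comp (c.jet : c.R →+* T n 3 c.R) (mon χ m')) m = _
    rw [h2, tc_mk _ _ hm, coeff_monomial]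
  rw [map_sum, map_sum]
  simp only [← Algebra.smul_def, map_smul, h1, smul_eq_mul, mul_ite, mul_one, mul_zero]
  rw [Finset.sum_ite_eq', if_pos (mem_idx.2 hm)]

/-- forms of degree `d ≥ e` generate `R` modulo `(ker χ)^(e+1)`. -/
theorem exists_form {e d : ℕ} (hed : e ≤ d) (a : c.R) :
    ∃ H : Form r k d, a - c.fn H ∈ RingHom.ker χ ^ (e + 1) := by
  -- multiplication of forms by powers of `T_j`
  have hup : ∀ (e' d' : ℕ) (h : e' ≤ d') (H : Form r k e'), ∃ H' : Form r k d', c.fn H' = c.fn H := by
    intro e' d' h H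
    refine ⟨⟨H.1 * X c.j ^ (d' - e'), ?_⟩, ?_⟩
    · have h1 := (mem_homogeneousSubmodule _ _).1 H.2
      have h2 := (isHomogeneous_X_pow (R := k) c.j (d' - e'))
      have h3 := h1.mul h2
      rw [Nat.add_sub_cancel' h] at h3
      exact (mem_homogeneousSubmodule _ _).2 h3
    · rw [fn_apply, fn_apply, map_mul, map_pow, aeval_X, c.u_j, one_pow, mul_one]
  have hmul : ∀ (e₁ e₂ : ℕ) (H₁ : Form r k e₁) (H₂ : Form r k e₂),
      ∃ H' : Form r k (e₁ + e₂), c.fn H' = c.fn H₁ * c.fn H₂ := by
    intro e₁ e₂ H₁ H₂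
    refine ⟨⟨H₁.1 * H₂.1, ?_⟩, ?_⟩
    · exact (mem_homogeneousSubmodule _ _).2
        (((mem_homogeneousSubmodule _ _).1 H₁.2).mul ((mem_homogeneousSubmodule _ _).1 H₂.2))
    · rw [fn_apply, fn_apply, fn_apply, map_mul]
  -- degree one
  have hone : ∀ a : c.R, ∃ H : Form r k 1, a - c.fn H ∈ RingHom.ker χ ^ 2 := by
    intro a
    obtain ⟨p, hp⟩ := c.dense χ 2 a
    let S : Submodule k c.R := 
      { carrier := {b | ∃ H : Form r k 1, b - c.fn H ∈ RingHom.ker χ ^ 2}
        add_mem' := by
          rintro b b' ⟨H, hH⟩ ⟨H', hH'⟩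
          refine ⟨H + H', ?_⟩
          have := Ideal.add_mem _ hH hH'
          rw [map_add]
          convert this using 1
          ring
        zero_mem' := ⟨0, by rw [map_zero, sub_zero]; exact Ideal.zero_mem _⟩
        smul_mem' := by
          rintro t b ⟨H, hH⟩
          refine ⟨t • H, ?_⟩
          rw [map_smul, ← smul_sub, Algebra.smul_def]
          exact Ideal.mul_mem_left _ _ hH }
    have hu : ∀ m, c.u m ∈ S := by
      intro m
      refine ⟨⟨X m, X_mem r k m⟩, ?_⟩
      rw [fn_apply, aeval_X, sub_self]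
      exact Ideal.zero_mem _
    have h1 : (1 : c.R) ∈ S := by rw [← c.u_j]; exact hu _
    have hconst : ∀ t : k, algebraMap k c.R t ∈ S := by
      intro t
      rw [Algebra.algebraMap_eq_smul_one]
      exact S.smul_mem _ h1
    have hsq : ∀ b ∈ RingHom.ker χ ^ 2, b ∈ S := by
      intro b hb
      exact ⟨0, by rwa [map_zero, sub_zero]⟩
    have hsub : ∀ b : c.R, b - algebraMap k c.R (χ b) ∈ RingHom.ker χ := by
      intro b
      rw [RingHom.mem_ker, map_sub, AlgHom.commutes]
      simp
    have hprod : ∀ b ∈ S, ∀ b' ∈ S, b * b' ∈ S := by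
      intro b hb b' hb'
      have h2 : b * b' = (b - algebraMap k c.R (χ b)) * (b' - algebraMap k c.R (χ b')) +
          (χ b) • b' + (χ b') • b - algebraMap k c.R (χ b * χ b') := by
        rw [Algebra.smul_def, Algebra.smul_def, map_mul]
        ring
      rw [h2]
      refine S.sub_mem (S.add_mem (S.add_mem (hsq _ ?_) (S.smul_mem _ hb')) (S.smul_mem _ hb)) (hconst _)
      rw [pow_two]
      exact Ideal.mul_mem_mul (hsub b) (hsub b')
    have hall : ∀ q : MvPolynomial (Fin (r + 1)) k, aeval c.u q ∈ S := by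
      intro q
      induction q using MvPolynomial.induction_on with
      | C t => rw [aeval_C]; exact hconst t
      | add q q' h h' => rw [map_add]; exact S.add_mem h h'
      | mul_X q m h => rw [map_mul, aeval_X]; exact hprod _ h _ (hu m)
    have h3 : a ∈ S := by
      have := S.add_mem (hsq _ hp) (hall p)
      rwa [sub_add_cancel] at this
    exact h3
  -- induction
  have key : ∀ e : ℕ, ∀ a : c.R, ∃ H : Form r k e, a - c.fn H ∈ RingHom.ker χ ^ (e + 1) := by
    intro e
    induction e with
    | zero =>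
      intro a
      refine ⟨⟨C (χ a), (mem_homogeneousSubmodule _ _).2 (isHomogeneous_C _ _)⟩, ?_⟩
      rw [fn_apply, aeval_C, zero_add, pow_one, RingHom.mem_ker, map_sub, AlgHom.commutes]
      simp
    | succ e ih =>
      have hprod : ∀ b ∈ RingHom.ker χ ^ (e + 1), ∃ H : Form r k (e + 1), b - c.fn H ∈ RingHom.ker χ ^ (e + 1 + 1) := by
        intro b hb
        rw [pow_succ] at hb
        refine Submodule.mul_induction_on hb ?_ ?_
        · intro x hx y hy
          obtain ⟨G, hG⟩ := ih x
          obtain ⟨L, hL⟩ := hone y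
          obtain ⟨H', hH'⟩ := hmul e 1 G L
          refine ⟨H', ?_⟩
          rw [hH']
          have h2 : x * y - c.fn G * c.fn L = x * (y - c.fn L) + (x - c.fn G) * c.fn L := by ring
          have h3 : c.fn L ∈ RingHom.ker χ := by
            have h4 := Ideal.sub_mem _ hy (Ideal.pow_le_self (by norm_num : (2 : ℕ) ≠ 0) hL)
            rwa [sub_sub_cancel] at h4
          rw [h2]
          refine Ideal.add_mem _ ?_ ?_
          · have := Ideal.mul_mem_mul hx hL
            rwa [← pow_add] at this
          · have := Ideal.mul_mem_mul hG h3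
            rwa [← pow_succ] at this
        · rintro x y ⟨H, hH⟩ ⟨H', hH'⟩
          refine ⟨H + H', ?_⟩
          have := Ideal.add_mem _ hH hH'
          rw [map_add]
          convert this using 1
          ring
      intro a
      obtain ⟨H₀, hH₀⟩ := ih a
      obtain ⟨H₁, hH₁⟩ := hprod _ hH₀
      obtain ⟨H₂, hH₂⟩ := hup e (e + 1) (Nat.le_succ e) H₀
      refine ⟨H₁ + H₂, ?_⟩
      rw [map_add, hH₂]
      convert hH₁ using 1
      ring
  obtain ⟨H, hH⟩ := key e a
  obtain ⟨H', hH'⟩ := hup e d hed H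
  exact ⟨H', by rwa [hH']⟩

/-- forms of degree at least two have arbitrary two-jets -/
theorem exists_form_tay {d : ℕ} (hd : 2 ≤ d) (z : (Fin n →₀ ℕ) → k) :
    ∃ H : Form r k d, ∀ m : Fin n →₀ ℕ, m.degree < 3 → χ (c.tay m (c.fn H)) = z m := by
  obtain ⟨a, ha⟩ := c.exists_tay χ z
  obtain ⟨H, hH⟩ := c.exists_form χ hd a
  refine ⟨H, fun m hm => ?_⟩
  have h1 := (c.mem_ker_pow_iff χ (le_refl 3) _).1 hH m hm
  rw [map_sub, map_sub, sub_eq_zero] at h1
  rw [← h1, ha m hm]

/-- forms of positive degree have arbitrary one-jets -/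
theorem exists_form_tay_one {d : ℕ} (hd : 1 ≤ d) (z : (Fin n →₀ ℕ) → k) :
    ∃ H : Form r k d, ∀ m : Fin n →₀ ℕ, m.degree < 2 → χ (c.tay m (c.fn H)) = z m := by
  obtain ⟨a, ha⟩ := c.exists_tay χ z
  obtain ⟨H, hH⟩ := c.exists_form χ hd a
  refine ⟨H, fun m hm => ?_⟩
  have h1 := (c.mem_ker_pow_iff χ (by norm_num : 2 ≤ 3) _).1 hH m hm
  rw [map_sub, map_sub, sub_eq_zero] at h1
  rw [← h1, ha m (by omega)]

/-- homogeneous coordinates of the point -/
noncomputable def v : Fin (r + 1) → k := fun m => χ (c.u m)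

/-- the tangent vectors -/
noncomputable def w (l : Fin n) : Fin (r + 1) → k := fun m => χ (c.tay (Finsupp.single l 1) (c.u m))

/-- the cone over the embedded tangent space -/
noncomputable def W : Submodule k (Fin (r + 1) → k) :=
  Submodule.span k (Set.range (fun o : Option (Fin n) => o.elim (c.v χ) (c.w χ)))

theorem v_mem_W : c.v χ ∈ c.W χ := Submodule.subset_span ⟨none, rfl⟩

theorem w_mem_W (l : Fin n) : c.w χ l ∈ c.W χ := Submodule.subset_span ⟨some l, rfl⟩

theorem χ_aeval (p : MvPolynomial (Fin (r + 1)) k) : χ (aeval c.u p) = aeval (c.v χ) p := by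
  rw [← AlgHom.comp_apply, comp_aeval]
  rfl

theorem χ_tay_zero {d : ℕ} (H : Form r k d) : χ (c.tay 0 (c.fn H)) = aeval (c.v χ) H.1 := by
  rw [tay_zero, fn_apply, χ_aeval]

theorem χ_tay_single {d : ℕ} (l : Fin n) (H : Form r k d) : χ (c.tay (Finsupp.single l 1) (c.fn H)) =
    ∑ m, c.w χ l m * aeval (c.v χ) (pderiv m H.1) := by
  rw [fn_apply, tay_single_aeval, map_sum]
  refine Finset.sum_congr rfl fun m _ => ?_
  rw [map_mul, χ_aeval, mul_comm]
  rfl

theorem tangLin_apply {d : ℕ} (W : Submodule k (Fin (r + 1) → k)) (v : Fin (r + 1) → k) (H : Form r k d) :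
    H ∈ LinearMap.ker (tangLin k W v) ↔ aeval v H.1 = 0 ∧
      ∀ w ∈ W, ∑ m, w m * aeval v (pderiv m H.1) = 0 := by
  rw [LinearMap.mem_ker, tangLin, LinearMap.prod_apply]
  change (_, _) = ((0 : k), (0 : ↥W → k)) ↔ _
  rw [Prod.mk_inj]
  refine and_congr Iff.rfl ?_
  rw [funext_iff]
  constructor
  · intro h w hw
    have := h ⟨w, hw⟩
    simpa using this
  · intro h w
    have := h w.1 w.2
    simpa using this

/-- Euler's relation -/
theorem euler {d : ℕ} (v : Fin (r + 1) → k) (H : Form r k d) :
    ∑ m, v m * aeval v (pderiv m H.1) = d • aeval v H.1 := by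
  have h1 := IsHomogeneous.sum_X_mul_pderiv ((mem_homogeneousSubmodule _ _).1 H.2)
  have h2 := congrArg (aeval v) h1
  rw [map_sum] at h2
  simp only [map_mul, aeval_X, map_nsmul] at h2
  exact h2

/-- singularity at the point in terms of the tangent space -/
theorem mem_ker_tangLin_iff {d : ℕ} (H : Form r k d) :
    H ∈ LinearMap.ker (tangLin k (c.W χ) (c.v χ)) ↔
      ∀ m : Fin n →₀ ℕ, m.degree < 2 → χ (c.tay m (c.fn H)) = 0 := by
  rw [tangLin_apply]
  constructor
  · rintro ⟨h1, h2⟩ m hm
    have h3 : m.degree = 0 ∨ m.degree = 1 := by omega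
    rcases h3 with h3 | h3
    · rw [Finsupp.degree_eq_zero_iff] at h3
      subst h3
      rw [χ_tay_zero, h1]
    · obtain ⟨l, rfl⟩ : ∃ l, m = Finsupp.single l 1 := by
        have h4 : m ∈ Set.range (fun a : Fin n ↦ Finsupp.single a 1) := by
          rw [Finsupp.range_single_one]; exact h3
        obtain ⟨l, hl⟩ := h4
        exact ⟨l, hl.symm⟩
      rw [χ_tay_single]
      exact h2 _ (c.w_mem_W χ l)
  · intro h
    have h0 : aeval (c.v χ) H.1 = 0 := by
      rw [← χ_tay_zero]
      exact h 0 (by simp)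
    refine ⟨h0, fun w hw => ?_⟩
    refine Submodule.span_induction (p := fun w _ => ∑ m, w m * aeval (c.v χ) (pderiv m H.1) = 0)
      ?_ ?_ ?_ ?_ hw
    · rintro _ ⟨o, rfl⟩
      rcases o with _ | l
      · change ∑ m, (c.v χ) m * _ = 0
        rw [euler, h0, smul_zero]
      · change ∑ m, (c.w χ l) m * _ = 0
        rw [← χ_tay_single]
        exact h _ (by rw [degree_single_one]; norm_num)
    · simp
    · intro x y _ _ hx hy
      simp only [Pi.add_apply, add_mul, Finset.sum_add_distrib, hx, hy, add_zero]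
    · intro t x _ hx
      simp only [Pi.smul_apply, smul_eq_mul, mul_assoc, ← Finset.mul_sum, hx, mul_zero]

theorem linearIndependent_vw :
    LinearIndependent k (fun o : Option (Fin n) => o.elim (c.v χ) (c.w χ)) := by
  rw [Fintype.linearIndependent_iff]
  intro g hg o
  -- a linear form dual to `o`
  let z : (Fin n →₀ ℕ) → k := fun m => o.elim (if m = 0 then 1 else 0)
    (fun l => if m = Finsupp.single l 1 then 1 else 0)
  obtain ⟨H, hH⟩ := c.exists_form_tay_one χ (le_refl 1) z
  -- the linear functional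
  let a : Fin (r + 1) → k := fun m => aeval (0 : Fin (r + 1) → k) (pderiv m H.1)
  have ha : ∀ (x : Fin (r + 1) → k) (m : Fin (r + 1)), aeval x (pderiv m H.1) = a m := by
    intro x m
    have h1 : (pderiv m H.1).IsHomogeneous 0 :=
      IsHomogeneous.pderiv ((mem_homogeneousSubmodule _ _).1 H.2)
    have h2 : pderiv m H.1 = C (coeff 0 (pderiv m H.1)) := by
      rw [← totalDegree_eq_zero_iff_eq_C]
      exact Nat.le_zero.1 h1.totalDegree_le
    change _ = aeval (0 : Fin (r + 1) → k) (pderiv m H.1)
    rw [h2, aeval_C, aeval_C]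
  have hφ : ∀ o : Option (Fin n), ∑ m, (o.elim (c.v χ) (c.w χ) : Fin (r + 1) → k) m * a m =
      z (o.elim 0 (fun l => Finsupp.single l 1)) := by
    rintro (_ | l)
    · change ∑ m, c.v χ m * a m = z 0
      rw [← hH 0 (by simp), χ_tay_zero]
      have h1 := euler (c.v χ) H
      rw [one_smul] at h1
      rw [← h1]
      exact Finset.sum_congr rfl fun m _ => by rw [ha]
    · change ∑ m, c.w χ l m * a m = z (Finsupp.single l 1)
      rw [← hH _ (by rw [degree_single_one]; norm_num), χ_tay_single]
      exact Finset.sum_congr rfl fun m _ => by rw [ha]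
  have hz : ∀ o' : Option (Fin n), z (o'.elim 0 (fun l => Finsupp.single l 1)) = if o' = o then 1 else 0 := by
    intro o'
    rcases o with _ | l <;> rcases o' with _ | l'
    · simp [z]
    · simp [z]
    · simp only [z, Option.elim_none, Option.elim_some]
      rw [if_neg, if_neg (by simp)]
      intro h
      exact one_ne_zero (Finsupp.single_eq_zero.1 h.symm)
    · simp only [z, Option.elim_some, Option.some.injEq]
      congr 1
      rw [eq_iff_iff]
      exact (Finsupp.single_left_injective one_ne_zero).eq_iff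
  have h1 : ∑ m, (∑ o', g o' • (o'.elim (c.v χ) (c.w χ) : Fin (r + 1) → k)) m * a m = 0 := by
    rw [hg]; simp
  have h2 : ∑ m, (∑ o', g o' • (o'.elim (c.v χ) (c.w χ) : Fin (r + 1) → k)) m * a m =
      ∑ o', g o' * ∑ m, (o'.elim (c.v χ) (c.w χ) : Fin (r + 1) → k) m * a m := by
    simp only [Finset.sum_apply, Pi.smul_apply, smul_eq_mul, Finset.sum_mul, Finset.mul_sum]
    rw [Finset.sum_comm]
    refine Finset.sum_congr rfl fun o' _ => Finset.sum_congr rfl fun m _ => ?_
    ring
  rw [h2] at h1
  simp only [hφ, hz, mul_ite, mul_one, mul_zero] at h1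
  rwa [Finset.sum_ite_eq', if_pos (Finset.mem_univ _)] at h1

theorem finrank_W : Module.finrank k (c.W χ) = n + 1 := by
  rw [W, finrank_span_eq_card (c.linearIndependent_vw χ), Fintype.card_option, Fintype.card_fin]

end Point

end EtChart

end Groth.Agent.Lefpen.H701
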