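import Groth.Agent.Lefpen.H705.SecIdeal
import Mathlib.RingTheory.Etale.Basic

/-!
# Étale charts of a smooth irreducible closed subscheme of projective space

* `EtChart k r n`: a domain `R` étale over `k[t_1, …, t_n]` with functions `u_0, …, u_r`, `u_j = 1`, generating
  `R` modulo the powers of the maximal ideals.
* `EtChart.fn c H = H(u)`.
* `EtChart.At c i x χ`: the closed point `x` of `X` (embedded by `i`) corresponds to the point `χ` of the chart.
-/

set_option autoImplicit false
universe u

open CategoryTheory AlgebraicGeometry Limits TopologicalSpace Opposite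

namespace Groth.Agent.Lefpen.H701

open LefPen Groth.Agent.Lefpen.H705.SecIdeal

/-- A domain `R`, étale over `k[t_1, …, t_n]`, with the functions `u_m = T_m / T_j` on it. -/
structure EtChart (k : Type u) [Field k] (r n : ℕ) where
  /-- the ring of the chart -/
  R : Type u
  [commRing : CommRing R]
  [isDomain : IsDomain R]
  [algk : Algebra k R]
  [algP : Algebra (MvPolynomial (Fin n) k) R]
  [tower : IsScalarTower k (MvPolynomial (Fin n) k) R]
  [etale : Algebra.Etale (MvPolynomial (Fin n) k) R]
  /-- the number of the standard chart of projective space -/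
  j : Fin (r + 1)
  /-- the homogeneous coordinates divided by the `j`-th one -/
  u : Fin (r + 1) → R
  u_j : u j = 1
  /-- the polynomials in the `u_m` are dense for the topology given by a point -/
  dense : ∀ (χ : R →ₐ[k] k) (e : ℕ) (a : R), ∃ p : MvPolynomial (Fin (r + 1)) k,
    a - MvPolynomial.aeval u p ∈ RingHom.ker χ ^ e

namespace EtChart

attribute [instance] EtChart.commRing EtChart.isDomain EtChart.algk EtChart.algP EtChart.tower
  EtChart.etale

variable {k : Type u} [Field k] {r n : ℕ} (c : EtChart k r n)

/-- The value of a form at the coordinates of the chart: the function `H / T_j^d`. -/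
noncomputable def fn {d : ℕ} : Form r k d →ₗ[k] c.R :=
  (MvPolynomial.aeval c.u).toLinearMap ∘ₗ (CohB1.polyGrading r k d).subtype

theorem fn_apply {d : ℕ} (H : Form r k d) : c.fn H = MvPolynomial.aeval c.u H.1 := rfl

/-- The point `x` of `X` corresponds to the point `χ` of the chart `c`. -/
structure At {X : Scheme.{u}} (i : X ⟶ CohB1.ProjSpace r k) (x : X) (χ : c.R →ₐ[k] k) where
  /-- `x` lies in the standard chart -/
  hx : i x ∈ LefPen.chart r k c.j
  /-- the germ map -/
  g : c.R →+* X.presheaf.stalk x
  isLoc : @IsLocalization.AtPrime c.R _ (X.presheaf.stalk x) _ g.toAlgebra (RingHom.ker χ)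
    (RingHom.ker_isPrime _)
  g_algebraMap : ∀ a : k, g (algebraMap k c.R a) =
    toStalk k (i ≫ CohB1.ProjSpace.toSpec r k) x a
  g_fn : ∀ (d : ℕ) (H : Form r k d), g (c.fn H) = stalkEqn i c.j x hx H

end EtChart

end Groth.Agent.Lefpen.H701
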