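import Groth.Agent.Lefpen.H701.SmallDim2
import Groth.Agent.Lefpen.H702.PolyFun

/-!
# Small sets of forms

* `FSmall k r d m T`: the set `T` of forms of degree `d` is small of dimension `≤ m`;
* `fsmall_count`: incidence counts;
* `isGeneric_pencil`: if `T` has dimension `≤ N - 2` then the general pencil does not meet `T`.
-/

set_option autoImplicit false
universe u

open MvPolynomial

namespace Groth.Agent.Lefpen.H701

open LefPen Groth.Agent.Lefpen.H702.PolyFun Groth.Agent.Lefpen.H701.SmallDim Groth.Agent.Lefpen.H701.SmallDim2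

/-- the exponents of the monomials of degree `d` -/
abbrev FI (r d : ℕ) : Type := {e : Fin (r + 1) →₀ ℕ // e.degree = d}

noncomputable instance (r d : ℕ) : Fintype (FI r d) :=
  (Finsupp.finite_of_degree_eq d).fintype

variable (k : Type u) [Field k] (r d : ℕ)

/-- small sets of forms -/
def FSmall (m : ℕ∞) (T : Set (Form r k d)) : Prop :=
  SmallDim k m {y | (formCoords r k d).symm y ∈ T}

variable {k r d}

theorem FSmall.mono {m m' : ℕ∞} {T T' : Set (Form r k d)} (h : FSmall k r d m T)
    (hm : m ≤ m') (hT : T' ⊆ T) : FSmall k r d m' T' :=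
  SmallDim.mono h hm fun _ hy => hT hy

theorem fsmall_empty (m : ℕ∞) : FSmall k r d m ∅ := smallDim_empty m

theorem FSmall.union {m : ℕ∞} {T T' : Set (Form r k d)} (h : FSmall k r d m T)
    (h' : FSmall k r d m T') : FSmall k r d m (T ∪ T') :=
  SmallDim.union h h'

theorem FSmall.iUnion {m : ℕ∞} {α : Type*} [Finite α] {T : α → Set (Form r k d)}
    (h : ∀ a, FSmall k r d m (T a)) : FSmall k r d m (⋃ a, T a) := by
  refine (SmallDim.iUnion h).mono le_rfl ?_
  intro y hy
  simpa using hy

theorem fsmall_count {M : Type} [Fintype M] [DecidableEq M] {R : Type u} [CommRing R] [Algebra k R]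
    {e z t : ℕ} (hR : RkLE k R e) (L : M → Form r k d →ₗ[k] R) {Z : Set (M → k)}
    (hZ : SmallDim k z Z) (ht : e + z + Fintype.card (FI r d) ≤ t + Fintype.card M) :
    FSmall k r d t {H | ∃ χ : R →ₐ[k] k,
      Function.Surjective (fun (H : Form r k d) (m : M) => χ (L m H)) ∧ (fun m => χ (L m H)) ∈ Z} := by
  classical
  let b := formCoords r k d
  let C : Matrix M (FI r d) R := fun m e => L m (b.symm (Pi.single e 1))
  have hC : ∀ (χ : R →ₐ[k] k) (y : FI r d → k), (C.map χ).mulVec y = fun m => χ (L m (b.symm y)) := by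
    intro χ y
    ext m
    have h1 : y = ∑ e, y e • (Pi.single e 1 : FI r d → k) := by
      ext e'
      simp [Finset.sum_apply, Pi.single_apply]
    conv_rhs => rw [h1]
    rw [map_sum, map_sum, map_sum]
    simp only [Matrix.mulVec, dotProduct, Matrix.map_apply, C]
    refine Finset.sum_congr rfl fun e _ => ?_
    rw [map_smul, map_smul, map_smul, smul_eq_mul, mul_comm]
  by_cases hcard : Fintype.card M ≤ Fintype.card (FI r d)
  · refine (smallDim_count hR C hZ).mono ?_ ?_
    · norm_cast
      omega
    · rintro y ⟨χ, h1, h2⟩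
      refine ⟨χ, ?_, ?_⟩
      · intro z
        obtain ⟨H, hH⟩ := h1 z
        refine ⟨b H, ?_⟩
        rw [hC, LinearEquiv.symm_apply_apply]
        exact hH
      · rw [hC]; exact h2
  · refine (smallDim_empty (ι := FI r d) (k := k) t).mono le_rfl ?_
    rintro y ⟨χ, h1, -⟩
    exfalso
    apply hcard
    have h3 : Function.Surjective ((C.map χ).mulVecLin) := by
      intro z
      obtain ⟨H, hH⟩ := h1 z
      refine ⟨b H, ?_⟩
      change (C.map χ).mulVec (b H) = z
      rw [hC, LinearEquiv.symm_apply_apply]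
      exact hH
    have h4 := LinearMap.range_eq_top.2 h3
    have h5 := LinearMap.finrank_range_le ((C.map χ).mulVecLin)
    rw [h4, finrank_top] at h5
    simpa using h5

/-- a small set of pairs of forms avoids a generic pair. -/
theorem isGeneric_of_smallDim [Infinite k] {m : ℕ∞} {T : Set (Form r k d × Form r k d)}
    (h : SmallDim k m {p : FI r d ⊕ FI r d → k |
      ((formCoords r k d).symm fun i => p (Sum.inl i), (formCoords r k d).symm fun i => p (Sum.inr i)) ∈ T})
    (hm : m < Fintype.card (FI r d ⊕ FI r d)) : IsGeneric k Tᶜ := by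
  obtain ⟨f, hf0, hf⟩ := h.exists_polynomial hm
  let b : (Form r k d × Form r k d) ≃ₗ[k] (FI r d ⊕ FI r d → k) :=
    ((formCoords r k d).prodCongr (formCoords r k d)).trans (LinearEquiv.sumArrowLequivProdArrow _ _ k k).symm
  refine isGeneric_of_mvPolynomial b hf0 fun v hv hvT => hv (hf _ ?_)
  change (_, _) ∈ T
  have h1 : (fun i => b v (Sum.inl i)) = formCoords r k d v.1 := rfl
  have h2 : (fun i => b v (Sum.inr i)) = formCoords r k d v.2 := rfl
  rw [h1, h2, LinearEquiv.symm_apply_apply, LinearEquiv.symm_apply_apply]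
  exact hvT

/-- the general pencil does not meet a set of codimension two -/
theorem isGeneric_pencil [Infinite k] (hN : 2 ≤ Fintype.card (FI r d)) {T : Set (Form r k d)}
    (h : FSmall k r d ((Fintype.card (FI r d) - 2 : ℕ) : ℕ∞) T) :
    IsGeneric k {FG : Form r k d × Form r k d | ∀ H ∈ members k FG.1 FG.2, H ∉ T} := by
  have h1 := isGeneric_of_smallDim (T := {FG : Form r k d × Form r k d | ∃ b : k, FG.1 - b • FG.2 ∈ T})
    (m := ((Fintype.card (FI r d) - 2 : ℕ) : ℕ∞) + 1 + Fintype.card (FI r d))
    ((smallDim_pencil h).mono le_rfl (by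
      rintro p ⟨b, hb⟩
      refine ⟨b, ?_⟩
      change (formCoords r k d).symm _ ∈ T
      convert hb using 1
      rw [← map_smul, ← map_sub]
      rfl)) (by
      rw [Fintype.card_sum]
      norm_cast
      omega)
  have h2 := isGeneric_of_smallDim (T := {FG : Form r k d × Form r k d | FG.2 ∈ T})
    (m := ((Fintype.card (FI r d) - 2 : ℕ) : ℕ∞) + Fintype.card (FI r d))
    ((smallDim_inr (ι' := FI r d) h).mono le_rfl (by
      intro p hp
      exact hp)) (by
      rw [Fintype.card_sum]
      norm_cast
      omega)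
  refine IsGeneric.mono (IsGeneric.inter h1 h2) ?_
  rintro ⟨F, G⟩ ⟨h3, h4⟩ H (hH | ⟨b, hb⟩) hHT
  · rw [Set.mem_singleton_iff] at hH
    subst hH
    exact h4 hHT
  · apply h3
    refine ⟨-b, ?_⟩
    have h5 : F - (-b) • G = H := by
      rw [← hb]
      change F - (-b) • G = F + b • G
      have h6 : (-b) • G = -(b • G) := neg_smul b G
      rw [h6, sub_neg_eq_add]
    change F - (-b) • G ∈ T
    rw [h5]
    exact hHT

end Groth.Agent.Lefpen.H701
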