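import Groth.Agent.Lefpen.H701.ChartJet
import Groth.Agent.Lefpen.H701.FormSmall
import Groth.Agent.Lefpen.H703.NondegQuadCrit
import Groth.Agent.Lefpen.H705.Quadric

/-!
# Forms with a degenerate quadratic singularity

* `hess c χ H`: the quadratic part of `H` at the point `χ` of the étale chart `c`;
* `fsmall_hess`: the forms of degree `d ≥ 2` having a singular point with degenerate quadratic part in the chart form a set
  of dimension `≤ N - 2`.
-/

set_option autoImplicit false
universe u

open MvPolynomial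

namespace Groth.Agent.Lefpen.H701

open LefPen Groth.Agent.Lefpen.H702.PolyFun Groth.Agent.Lefpen.H701.SmallDim
open Groth.Agent.Lefpen.H701.SmallDim2

variable {k : Type u} [Field k]

/-- polynomial functions in coordinates -/
theorem exists_polynomial_of_isPolyFun {V : Type u} [AddCommGroup V] [Module k V] {σ : Type} [Fintype σ]
    (b : V ≃ₗ[k] (σ → k)) {f : V → k} (hf : IsPolyFun k f) :
    ∃ φ : MvPolynomial σ k, ∀ v, f v = aeval (b v) φ := by
  classical
  obtain ⟨p, hp⟩ := IsPolyFun.exists_mvPolynomial hf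
  refine ⟨aeval (fun l : Module.Dual k V => ∑ i, C (l (b.symm (Pi.single i 1))) * X i) p, fun v => ?_⟩
  rw [hp v, ← AlgHom.comp_apply, comp_aeval]
  congr 2
  funext l
  rw [map_sum]
  simp only [map_mul, aeval_X]
  have h1 : v = ∑ i, b v i • b.symm (Pi.single i 1) := by
    apply b.injective
    rw [map_sum]
    simp only [map_smul, LinearEquiv.apply_symm_apply]
    ext e'
    simp [Finset.sum_apply, Pi.single_apply]
  conv_lhs => rw [h1]
  rw [map_sum]
  refine Finset.sum_congr rfl fun i _ => ?_
  rw [map_smul, smul_eq_mul, mul_comm]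
  simp

/-- a nonzero polynomial in the coefficients which does not vanish only at nondegenerate quadratic forms -/
theorem exists_nondegPoly [IsAlgClosed k] (m : ℕ) : ∃ φ : MvPolynomial (FI m 2) k, φ ≠ 0 ∧
    ∀ z : FI m 2 → k, aeval z φ ≠ 0 → NondegQuad k ((formCoords m k 2).symm z) := by
  obtain ⟨Q₀, hQ₀⟩ := Groth.Agent.Lefpen.H705.Quadric.exists_nondegQuad (k := k) (m := m)
  obtain ⟨f, hf, hf0, hfQ⟩ := Groth.Agent.Lefpen.H703.NondegQuadCrit.isZOpen_nondegQuad (k := k) m Q₀ hQ₀
  obtain ⟨φ, hφ⟩ := exists_polynomial_of_isPolyFun (formCoords m k 2) hf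
  refine ⟨φ, ?_, fun z hz => hfQ _ ?_⟩
  · rintro rfl
    apply hf0
    rw [hφ, map_zero]
  · rw [hφ, LinearEquiv.apply_symm_apply]
    exact hz

namespace EtChart

variable {r m : ℕ} (c : EtChart k r (m + 1))

/-- the quadratic part of a form at a point of the chart -/
noncomputable def hess (χ : c.R →ₐ[k] k) {d : ℕ} (H : Form r k d) : Form m k 2 :=
  (formCoords m k 2).symm fun e => χ (c.tay e.1 (c.fn H))

theorem coeff_hess (χ : c.R →ₐ[k] k) {d : ℕ} (H : Form r k d) (e : Fin (m + 1) →₀ ℕ) (he : e.degree = 2) :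
    coeff e (c.hess χ H).1 = χ (c.tay e (c.fn H)) := by
  have h1 := formCoords_apply (c.hess χ H) ⟨e, he⟩
  rw [hess, LinearEquiv.apply_symm_apply] at h1
  exact h1.symm

theorem rkLE : RkLE k c.R (m + 1 : ℕ) := by
  have h := rkLE_of_unramified (k := k) (A := c.R) (σ := Fin (m + 1))
  rwa [Fintype.card_fin] at h

/-- Forms with a degenerate singular point in the chart. -/
theorem fsmall_hess [IsAlgClosed k] {d : ℕ} (hd : 2 ≤ d) :
    FSmall k r d ((Fintype.card (FI r d) - 2 : ℕ) : ℕ∞) {H | ∃ χ : c.R →ₐ[k] k,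
      (∀ e : Fin (m + 1) →₀ ℕ, e.degree < 2 → χ (c.tay e (c.fn H)) = 0) ∧
      ¬ NondegQuad k (c.hess χ H)} := by
  classical
  obtain ⟨φ, hφ0, hφ⟩ := exists_nondegPoly (k := k) m
  let M : Type := Option (Fin (m + 1)) ⊕ FI m 2
  let ex : M → (Fin (m + 1) →₀ ℕ) := Sum.elim (fun o => o.elim 0 (fun l => Finsupp.single l 1)) (fun e => e.1)
  have hex3 : ∀ x, (ex x).degree < 3 := by
    rintro ((_ | l) | e)
    · simp [ex]
    · simp [ex]
    · simp [ex, e.2]
  have hinj : Function.Injective ex := by
    rintro ((_ | l) | e) ((_ | l') | e') h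
    · rfl
    · exact absurd (Finsupp.single_eq_zero.1 h.symm) one_ne_zero
    · exfalso
      have := e'.2
      rw [← (show (0 : Fin (m + 1) →₀ ℕ) = e'.1 from h)] at this
      simp at this
    · exact absurd (Finsupp.single_eq_zero.1 h) one_ne_zero
    · have := Finsupp.single_left_injective one_ne_zero (show Finsupp.single l 1 = Finsupp.single l' 1 from h)
      rw [this]
    · exfalso
      have := e'.2
      rw [← (show Finsupp.single l 1 = e'.1 from h)] at this
      simp at this
    · exfalso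
      have := e.2
      rw [(show e.1 = 0 from h)] at this
      simp at this
    · exfalso
      have := e.2
      rw [(show e.1 = Finsupp.single l' 1 from h)] at this
      simp at this
    · have := Subtype.ext (show e.1 = e'.1 from h)
      rw [this]
  let L : M → Form r k d →ₗ[k] c.R := fun x => (c.tay (ex x)).comp c.fn
  let Z : Set (M → k) := {w | (∀ o, w (Sum.inl o) = 0) ∧ (fun e => w (Sum.inr e)) ∈ {q | aeval q φ = 0}}
  have hZ : SmallDim k ((Fintype.card (FI m 2) - 1 : ℕ) : ℕ∞) Z :=
    smallDim_zero_sum (smallDim_hypersurface hφ0)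
  have hpos : 0 < Fintype.card (FI m 2) :=
    Fintype.card_pos_iff.2 ⟨⟨Finsupp.single 0 2, by simp⟩⟩
  have hcount := fsmall_count (e := m + 1) (z := Fintype.card (FI m 2) - 1)
    (t := Fintype.card (FI r d) - 2) (c.rkLE) L hZ (by
      simp only [M, Fintype.card_sum, Fintype.card_option, Fintype.card_fin]
      omega)
  refine hcount.mono le_rfl ?_
  rintro H ⟨χ, h1, h2⟩
  refine ⟨χ, ?_, ?_, ?_⟩
  · intro z
    let z' : (Fin (m + 1) →₀ ℕ) → k := fun e => if h : ∃ x, ex x = e then z h.choose else 0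
    obtain ⟨H', hH'⟩ := c.exists_form_tay χ hd z'
    refine ⟨H', ?_⟩
    funext x
    change χ (c.tay (ex x) (c.fn H')) = z x
    rw [hH' _ (hex3 x)]
    have h3 : ∃ y, ex y = ex x := ⟨x, rfl⟩
    simp only [z', dif_pos h3]
    rw [hinj h3.choose_spec]
  · rintro (_ | l)
    · exact h1 0 (by simp)
    · exact h1 (Finsupp.single l 1) (by rw [degree_single_one]; norm_num)
  · by_contra hne
    exact h2 (hφ _ hne)

end EtChart

end Groth.Agent.Lefpen.H701
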