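import Groth.Agent.Vancyc.H689.PSPow
import Mathlib.LinearAlgebra.Basis.VectorSpace

/-!
# Descent of "multiple of a series modulo `(X)^r`" along a field extension
-/

set_option autoImplicit false
universe u

namespace Groth.Agent.Lefpen.H701.JFSeries

open MvPolynomial Groth.Agent.Vancyc.H689.PSPow

variable {k K : Type u} [Field k] [Field K] [Algebra k K] {N : ℕ}

/-- A polynomial relation modulo `(X)^r` descends along a field extension. -/
theorem descend (r : ℕ) (f q : MvPolynomial (Fin N) k) (w' : MvPolynomial (Fin N) K)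
    (hw : map (algebraMap k K) q - w' * map (algebraMap k K) f ∈ idealOfVars (Fin N) K ^ r) :
    ∃ w : MvPolynomial (Fin N) k, q - w * f ∈ idealOfVars (Fin N) k ^ r := by
  classical
  obtain ⟨l, hl⟩ := LinearMap.exists_leftInverse_of_injective (Algebra.linearMap k K)
    (LinearMap.ker_eq_bot.mpr (algebraMap k K).injective)
  have hl' : ∀ c : k, l (algebraMap k K c) = c := fun c => congr($hl c)
  refine ⟨∑ a ∈ w'.support, monomial a (l (coeff a w')), ?_⟩
  have hc : ∀ a, coeff a (∑ a ∈ w'.support, monomial a (l (coeff a w'))) = l (coeff a w') := by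
    intro a
    rw [coeff_sum]
    simp only [coeff_monomial]
    rw [Finset.sum_ite_eq']
    split_ifs with h
    · rfl
    · rw [notMem_support_iff.mp h, map_zero]
  rw [mem_pow_idealOfVars_iff'] at hw ⊢
  intro d hd
  have h1 := hw d hd
  rw [coeff_sub, coeff_map, coeff_mul] at h1
  rw [coeff_sub, coeff_mul]
  have h2 : l (algebraMap k K (coeff d q) - ∑ x ∈ Finset.antidiagonal d,
      coeff x.1 w' * coeff x.2 (map (algebraMap k K) f)) = 0 := by rw [h1, map_zero]
  rw [map_sub, hl', map_sum] at h2
  rw [← h2]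
  congr 1
  refine Finset.sum_congr rfl fun p _ => ?_
  rw [hc, coeff_map, mul_comm (coeff p.1 w'), ← Algebra.smul_def, map_smul, smul_eq_mul, mul_comm]

theorem coe_sub (p q : MvPolynomial (Fin N) K) :
    ((p - q : MvPolynomial (Fin N) K) : MvPowerSeries (Fin N) K) = p - q :=
  map_sub (MvPolynomial.coeToMvPowerSeries.ringHom (σ := Fin N) (R := K)) p q

/-- `q` is a multiple of `f` modulo `(X)^r`, if both are multiples of `g` over `K` and the
cofactor of `f` is a unit. -/
theorem exists_sub_mul_mem (r : ℕ) (g u : MvPowerSeries (Fin N) K) (f q : MvPolynomial (Fin N) k)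
    (hu : MvPowerSeries.constantCoeff u ≠ 0)
    (hf : ((map (algebraMap k K) f : MvPolynomial (Fin N) K) : MvPowerSeries (Fin N) K) - u * g ∈
      M K N ^ r)
    (hq : ((map (algebraMap k K) q : MvPolynomial (Fin N) K) : MvPowerSeries (Fin N) K) ∈
      Ideal.span {g} ⊔ M K N ^ r) :
    ∃ w : MvPolynomial (Fin N) k, q - w * f ∈ idealOfVars (Fin N) k ^ r := by
  have huu : IsUnit u := by
    rw [MvPowerSeries.isUnit_iff_constantCoeff]
    exact isUnit_iff_ne_zero.mpr hu
  obtain ⟨v, hv⟩ := huu.exists_left_inv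
  obtain ⟨y, hy, e, he, hye⟩ := Submodule.mem_sup.mp hq
  obtain ⟨c, rfl⟩ := Ideal.mem_span_singleton'.mp hy
  obtain ⟨w', hw'⟩ := exists_poly r (c * v)
  refine descend r f q w' ?_
  rw [← coe_mem_pow_iff, coe_sub, MvPolynomial.coe_mul, ← hye]
  set f' : MvPowerSeries (Fin N) K :=
    ((map (algebraMap k K) f : MvPolynomial (Fin N) K) : MvPowerSeries (Fin N) K) with hf'
  have h1 : c * g + e - (w' : MvPowerSeries (Fin N) K) * f' =
      (c * v - (w' : MvPowerSeries (Fin N) K)) * f' - c * v * (f' - u * g) + e := by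
    have h2 : c * v * (u * g) = c * g := by
      calc c * v * (u * g) = c * (v * u) * g := by ring
        _ = c * g := by rw [hv, mul_one]
    rw [mul_sub (c * v), h2]
    ring
  rw [h1]
  exact Ideal.add_mem _ (Ideal.sub_mem _ (Ideal.mul_mem_right _ _ hw') (Ideal.mul_mem_left _ _ hf)) he

end Groth.Agent.Lefpen.H701.JFSeries
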