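import Groth.Agent.Lefpen.H701.PairLin

/-!
# Forms singular at two points of a smooth variety

`fsmall_pair`: `c, c'` étale charts (of dimension `n ≥ 1`) of subvarieties of projective space, `d ≥ 2`: the forms of degree
`d` singular at a point of `c` and at another point of `c'` form a set of dimension `≤ N - 2`.
-/

set_option autoImplicit false
universe u

open MvPolynomial TensorProduct

namespace Groth.Agent.Lefpen.H701

open LefPen Groth.Agent.Lefpen.H702.PolyFun Groth.Agent.Lefpen.H701.SmallDim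
open Groth.Agent.Lefpen.H701.SmallDim2

namespace EtChart

variable {k : Type u} [Field k] {r n : ℕ} (c c' : EtChart k r n)

theorem rkLE_R : RkLE k c.R (n : ℕ) := by
  have h := rkLE_of_unramified (k := k) (A := c.R) (σ := Fin n)
  rwa [Fintype.card_fin] at h

theorem rkLE_tensor : RkLE k (c.R ⊗[k] c'.R) ((n + n : ℕ) : ℕ∞) := by
  have h := (c.rkLE_R).tensor (c'.rkLE_R)
  exact_mod_cast h

/-- the conditions over the product of the charts -/
noncomputable def evT (d : ℕ) : (Option (Fin n) ⊕ Option (Fin n)) → Form r k d →ₗ[k] (c.R ⊗[k] c'.R) :=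
  Sum.elim
    (fun o => (Algebra.TensorProduct.includeLeft (R := k) (S := k) (A := c.R) (B := c'.R)).toLinearMap ∘ₗ
      c.tay (ex1 o) ∘ₗ c.fn)
    (fun o => (Algebra.TensorProduct.includeRight (R := k) (A := c.R) (B := c'.R)).toLinearMap ∘ₗ
      c'.tay (ex1 o) ∘ₗ c'.fn)

/-- the point of the product given by two points -/
noncomputable def pr (χ : c.R →ₐ[k] k) (χ' : c'.R →ₐ[k] k) : c.R ⊗[k] c'.R →ₐ[k] k :=
  Algebra.TensorProduct.lift χ χ' fun _ _ => Commute.all _ _

theorem pr_evT (χ : c.R →ₐ[k] k) (χ' : c'.R →ₐ[k] k) (d : ℕ) (H : Form r k d)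
    (m : Option (Fin n) ⊕ Option (Fin n)) : pr c c' χ χ' (evT c c' d m H) = ev2 c χ c' χ' d H m := by
  rcases m with o | o
  · rw [ev2_inl, ev_apply]
    change pr c c' χ χ' (c.tay (ex1 o) (c.fn H) ⊗ₜ 1) = _
    rw [pr, Algebra.TensorProduct.lift_tmul, map_one, mul_one]
  · rw [ev2_inr, ev_apply]
    change pr c c' χ χ' (1 ⊗ₜ c'.tay (ex1 o) (c'.fn H)) = _
    rw [pr, Algebra.TensorProduct.lift_tmul, map_one, one_mul]

theorem ev2_eq_zero {χ : c.R →ₐ[k] k} {χ' : c'.R →ₐ[k] k} {d : ℕ} {H : Form r k d}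
    (h : c.Sing χ H) (h' : c'.Sing χ' H) : ev2 c χ c' χ' d H = 0 := by
  funext m
  rcases m with o | o
  · rw [ev2_inl, (c.sing_iff χ H).1 h]; rfl
  · rw [ev2_inr, (c'.sing_iff χ' H).1 h']; rfl

/-- pairs with independent conditions -/
theorem fsmall_pair_surj {d : ℕ} : FSmall k r d ((Fintype.card (FI r d) - 2 : ℕ) : ℕ∞)
    {H | ∃ (χ : c.R →ₐ[k] k) (χ' : c'.R →ₐ[k] k), Function.Surjective (ev2 c χ c' χ' d) ∧
      c.Sing χ H ∧ c'.Sing χ' H} := by
  classical
  have hcount := fsmall_count (e := n + n) (z := 0) (t := Fintype.card (FI r d) - 2)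
    (rkLE_tensor c c') (evT c c' d) (Z := {0}) (by exact_mod_cast smallDim_zero) (by
      simp only [Fintype.card_sum, Fintype.card_option, Fintype.card_fin]
      omega)
  refine hcount.mono le_rfl ?_
  rintro H ⟨χ, χ', h1, h2, h3⟩
  refine ⟨pr c c' χ χ', ?_, ?_⟩
  · simp only [pr_evT]
    exact h1
  · simp only [pr_evT]
    exact ev2_eq_zero c c' h2 h3

/-- the matrix of the conditions -/
noncomputable def mat (d : ℕ) : Matrix (Option (Fin n) ⊕ Option (Fin n)) (FI r d) (c.R ⊗[k] c'.R) :=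
  fun m e => evT c c' d m ((formCoords r k d).symm (Pi.single e 1))

/-- the ideal of the maximal minors -/
noncomputable def minors (d : ℕ) : Ideal (c.R ⊗[k] c'.R) := 
  Ideal.span (Set.range fun β : (Option (Fin n) ⊕ Option (Fin n)) → FI r d =>
    ((mat c c' d).submatrix id β).det)

theorem surjective_of_minor {d : ℕ} {χ : c.R →ₐ[k] k} {χ' : c'.R →ₐ[k] k}
    (β : (Option (Fin n) ⊕ Option (Fin n)) → FI r d)
    (h : pr c c' χ χ' ((mat c c' d).submatrix id β).det ≠ 0) :
    Function.Surjective (ev2 c χ c' χ' d) := by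
  classical
  let A : Matrix (Option (Fin n) ⊕ Option (Fin n)) (Option (Fin n) ⊕ Option (Fin n)) k :=
    ((mat c c' d).submatrix id β).map (pr c c' χ χ')
  have hA : A.det = pr c c' χ χ' ((mat c c' d).submatrix id β).det := by
    rw [AlgHom.map_det]; rfl
  have hAu : IsUnit A.det := by rw [hA]; exact isUnit_iff_ne_zero.2 h
  intro z
  obtain ⟨x, hx⟩ := (Matrix.mulVec_surjective_iff_isUnit.2 ((Matrix.isUnit_iff_isUnit_det A).2 hAu)) z
  refine ⟨∑ m, x m • (formCoords r k d).symm (Pi.single (β m) 1), ?_⟩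
  funext m
  rw [map_sum, ← hx]
  simp only [Finset.sum_apply, Matrix.mulVec, dotProduct]
  refine Finset.sum_congr rfl fun m' _ => ?_
  rw [map_smul, Pi.smul_apply, smul_eq_mul, mul_comm, ← pr_evT]
  rfl

/-- pairs of dependent conditions, when the conditions are not everywhere dependent -/
theorem fsmall_pair_minors [IsAlgClosed k] (hn : 1 ≤ n) {d : ℕ} (hd : 2 ≤ d) (hm : minors c c' d ≠ ⊥) :
    FSmall k r d ((Fintype.card (FI r d) - 2 : ℕ) : ℕ∞)
    {H | ∃ (χ : c.R →ₐ[k] k) (χ' : c'.R →ₐ[k] k), LinearIndependent k ![c.v χ, c'.v χ'] ∧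
      c.Sing χ H ∧ c'.Sing χ' H} := by
  classical
  have hft : Algebra.FiniteType k c.R :=
    Algebra.FiniteType.trans (S := MvPolynomial (Fin n) k) inferInstance inferInstance
  have hdom : IsDomain (c.R ⊗[k] c'.R) := Groth.Agent.Sga3B.RG.isDomain_tensor
  have hrk : RkLE k ((c.R ⊗[k] c'.R) ⧸ minors c c' d) ((n + n - 1 : ℕ) : ℕ∞) := by
    refine RkLE.quotient_of_isDomain ?_ _ hm
    have h1 : n + n - 1 + 1 = n + n := by omega
    rw [h1]
    exact rkLE_tensor c c'
  have hdel : ∀ m₀ : Option (Fin n) ⊕ Option (Fin n),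
      FSmall k r d ((Fintype.card (FI r d) - 2 : ℕ) : ℕ∞)
      {H | ∃ χ : ((c.R ⊗[k] c'.R) ⧸ minors c c' d) →ₐ[k] k,
        Function.Surjective (fun (H : Form r k d) (m : {m // m ≠ m₀}) =>
          χ ((Ideal.Quotient.mkₐ k (minors c c' d)).toLinearMap.comp (evT c c' d m.1) H)) ∧
        (fun m : {m // m ≠ m₀} =>
          χ ((Ideal.Quotient.mkₐ k (minors c c' d)).toLinearMap.comp (evT c c' d m.1) H)) ∈
          ({0} : Set ({m // m ≠ m₀} → k))} := by
    intro m₀
    exact fsmall_count (e := n + n - 1) (z := 0) (t := Fintype.card (FI r d) - 2)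
      hrk (fun m : {m // m ≠ m₀} => (Ideal.Quotient.mkₐ k (minors c c' d)).toLinearMap.comp (evT c c' d m.1))
      (Z := {0}) (by exact_mod_cast smallDim_zero) (by
        rw [Fintype.card_subtype_compl, Fintype.card_subtype_eq]
        simp only [Fintype.card_sum, Fintype.card_option, Fintype.card_fin]
        omega)
  refine ((fsmall_pair_surj c c').union (FSmall.iUnion hdel)).mono le_rfl ?_
  rintro H ⟨χ, χ', h1, h2, h3⟩
  by_cases hs : Function.Surjective (ev2 c χ c' χ' d)
  · exact Or.inl ⟨χ, χ', hs, h2, h3⟩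
  · right
    obtain ⟨m₀, hm₀⟩ := exists_surjective_pair (c := c) (c' := c') hd h1
    rw [Set.mem_iUnion]
    refine ⟨m₀, Ideal.Quotient.liftₐ _ (pr c c' χ χ') ?_, ?_, ?_⟩
    · intro x hx
      have h4 : minors c c' d ≤ RingHom.ker (pr c c' χ χ') := by
        rw [minors, Ideal.span_le]
        rintro _ ⟨β, rfl⟩
        by_contra hne
        exact hs (surjective_of_minor c c' β hne)
      exact h4 hx
    · intro z
      obtain ⟨H', hH'⟩ := hm₀ z
      refine ⟨H', ?_⟩
      rw [← hH']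
      funext m
      exact pr_evT c c' χ χ' d H' m.1
    · have h5 := ev2_eq_zero c c' h2 h3
      rw [Set.mem_singleton_iff]
      funext m
      exact (pr_evT c c' χ χ' d H m.1).trans (congrFun h5 m.1)

end EtChart

end Groth.Agent.Lefpen.H701
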