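import Groth.Agent.Lefpen.H701.ChartJet
import Groth.Agent.Lefpen.H701.FormSmall
import Groth.Agent.Sga3B.RG.Nullst
import Groth.Agent.S4024
import Groth.Agent.Lefpen.H703.NondegQuadCrit

/-!
# Two singular points: linear algebra at a pair of points

* `ev c χ : Form → (Option (Fin n) → k)`, the one-jet at the point `χ`; `ker_ev`.
* `surjective_pair`: the one-jets at two points with `v ≠ v'` in projective space are independent, for `d ≥ 3` or if not both
  points lie in the tangent space of the other one; `exists_surjective_pair`: up to one of the conditions they are always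
  independent (`d ≥ 2`).
* `le_span_v`: the tangent spaces are contained in the span of the points.
* `polar` and the null radical of a quadratic form on a linear subspace.
-/

set_option autoImplicit false
universe u

open MvPolynomial

namespace Groth.Agent.Lefpen.H701

open LefPen

section LinAlg

variable {k : Type u} [Field k]

/-- A linear map with image of codimension at most one becomes onto after deleting a coordinate. -/
theorem exists_surjective_delete {V : Type*} [AddCommGroup V] [Module k V] {M : Type}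
    [Fintype M] [DecidableEq M] [Nonempty M] (f : V →ₗ[k] (M → k))
    (h : Fintype.card M ≤ Module.finrank k (LinearMap.range f) + 1) :
    ∃ m₀ : M, Function.Surjective (fun (x : V) (m : {m : M // m ≠ m₀}) => f x m.1) := by
  classical
  by_cases htop : LinearMap.range f = ⊤
  · obtain ⟨m₀⟩ := ‹Nonempty M›
    refine ⟨m₀, fun z => ?_⟩
    obtain ⟨x, hx⟩ := LinearMap.range_eq_top.1 htop (fun m => if hm : m ≠ m₀ then z ⟨m, hm⟩ else 0)
    refine ⟨x, ?_⟩
    funext m
    change f x m.1 = z m
    rw [hx]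
    exact dif_pos m.2
  · obtain ⟨φ, hφ0, hφ⟩ := Submodule.exists_le_ker_of_lt_top _ (lt_top_iff_ne_top.2 htop)
    have hker : Module.finrank k (LinearMap.ker φ) + 1 = Fintype.card M := by
      have h1 := LinearMap.finrank_range_add_finrank_ker φ
      rw [LinearMap.range_eq_top.2 (LinearMap.surjective hφ0), finrank_top, Module.finrank_self,
        Module.finrank_fintype_fun_eq_card] at h1
      omega
    have heq : LinearMap.range f = LinearMap.ker φ :=
      Submodule.eq_of_le_of_finrank_le hφ (by omega)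
    obtain ⟨m₀, hm₀⟩ : ∃ m₀, φ (Pi.single m₀ 1) ≠ 0 := by
      by_contra! hcon
      apply hφ0
      apply LinearMap.pi_ext'
      intro m
      ext
      simpa using hcon m
    refine ⟨m₀, fun z => ?_⟩
    let z₀ : M → k := fun m => if hm : m ≠ m₀ then z ⟨m, hm⟩ else 0
    have h2 : z₀ - (φ z₀ / φ (Pi.single m₀ 1)) • Pi.single m₀ (1 : k) ∈ LinearMap.range f := by
      rw [heq, LinearMap.mem_ker, map_sub, map_smul, smul_eq_mul, div_mul_cancel₀ _ hm₀, sub_self]
    obtain ⟨x, hx⟩ := h2
    refine ⟨x, ?_⟩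
    funext m
    change f x m.1 = z m
    rw [hx, Pi.sub_apply, Pi.smul_apply, Pi.single_eq_of_ne m.2, smul_zero, sub_zero]
    simp only [z₀]
    rw [dif_pos m.2]

end LinAlg

namespace EtChart

variable {k : Type u} [Field k] {r n : ℕ}

/-- the exponents of degree `≤ 1` -/
noncomputable def ex1 {n : ℕ} (o : Option (Fin n)) : Fin n →₀ ℕ := o.elim 0 (fun l => Finsupp.single l 1)

theorem degree_ex1 (o : Option (Fin n)) : (ex1 o).degree < 2 := by
  rcases o with _ | l
  · simp [ex1]
  · simp [ex1]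

theorem exists_ex1 {m : Fin n →₀ ℕ} (hm : m.degree < 2) : ∃ o, m = ex1 o := by
  have h3 : m.degree = 0 ∨ m.degree = 1 := by omega
  rcases h3 with h3 | h3
  · rw [Finsupp.degree_eq_zero_iff] at h3
    exact ⟨none, h3⟩
  · have h4 : m ∈ Set.range (fun a : Fin n ↦ Finsupp.single a 1) := by
      rw [Finsupp.range_single_one]; exact h3
    obtain ⟨l, hl⟩ := h4
    exact ⟨some l, hl.symm⟩

variable (c : EtChart k r n) (χ : c.R →ₐ[k] k)

/-- `H` is singular (to first order zero) at the point `χ` -/
def Sing {d : ℕ} (H : Form r k d) : Prop :=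
  ∀ m : Fin n →₀ ℕ, m.degree < 2 → χ (c.tay m (c.fn H)) = 0

/-- the one-jet of a form at a point -/
noncomputable def ev (d : ℕ) : Form r k d →ₗ[k] (Option (Fin n) → k) :=
  LinearMap.pi fun o => χ.toLinearMap ∘ₗ c.tay (ex1 o) ∘ₗ c.fn

theorem ev_apply {d : ℕ} (H : Form r k d) (o : Option (Fin n)) :
    c.ev χ d H o = χ (c.tay (ex1 o) (c.fn H)) := rfl

theorem sing_iff {d : ℕ} (H : Form r k d) : c.Sing χ H ↔ c.ev χ d H = 0 := by
  constructor
  · intro h
    funext o
    exact h _ (degree_ex1 o)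
  · intro h m hm
    obtain ⟨o, rfl⟩ := exists_ex1 hm
    exact congrFun h o

theorem ker_ev (d : ℕ) : LinearMap.ker (c.ev χ d) = LinearMap.ker (tangLin k (c.W χ) (c.v χ)) := by
  ext H
  rw [LinearMap.mem_ker, ← sing_iff, mem_ker_tangLin_iff]
  rfl

theorem sing_iff_tangLin {d : ℕ} (H : Form r k d) :
    c.Sing χ H ↔ aeval (c.v χ) H.1 = 0 ∧ ∀ w ∈ c.W χ, ∑ m, w m * aeval (c.v χ) (pderiv m H.1) = 0 := by
  rw [← tangLin_apply, mem_ker_tangLin_iff]
  rfl

theorem v_ne_zero : c.v χ ≠ 0 := by
  intro h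
  have h1 := congrFun h c.j
  rw [v, c.u_j, map_one] at h1
  exact one_ne_zero h1

variable (c' : EtChart k r n) (χ' : c'.R →ₐ[k] k)

/-- the one-jets at two points -/
noncomputable def ev2 (d : ℕ) : Form r k d →ₗ[k] (Option (Fin n) ⊕ Option (Fin n) → k) :=
  (LinearEquiv.sumArrowLequivProdArrow _ _ k k).symm.toLinearMap ∘ₗ (c.ev χ d).prod (c'.ev χ' d)

theorem ev2_inl {d : ℕ} (H : Form r k d) (o : Option (Fin n)) :
    ev2 c χ c' χ' d H (Sum.inl o) = c.ev χ d H o := rfl

theorem ev2_inr {d : ℕ} (H : Form r k d) (o : Option (Fin n)) :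
    ev2 c χ c' χ' d H (Sum.inr o) = c'.ev χ' d H o := rfl

theorem ker_ev2 (d : ℕ) : LinearMap.ker (ev2 c χ c' χ' d) =
    tangentForms k d (c.W χ) (c.v χ) (c'.W χ') (c'.v χ') := by
  rw [ev2, LinearEquiv.ker_comp, LinearMap.ker_prod, ker_ev, ker_ev, tangentForms]

variable {c χ c' χ'}

theorem finiteDimensional_form (r : ℕ) (k : Type u) [Field k] (d : ℕ) : Module.Finite k (Form r k d) := by
  have : Finite {e : Fin (r + 1) →₀ ℕ // e.degree = d} := (Finsupp.finite_of_degree_eq d).to_subtype
  exact Module.Finite.equiv (Groth.Agent.Lefpen.H702.PolyFun.formCoords r k d).symm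

/-- independence of the conditions at two points -/
theorem surjective_pair {d : ℕ} (hd : 2 ≤ d) (hv : LinearIndependent k ![c.v χ, c'.v χ'])
    (h : 3 ≤ d ∨ ¬ (c'.v χ' ∈ c.W χ ∧ c.v χ ∈ c'.W χ')) :
    Function.Surjective (ev2 c χ c' χ' d) := by
  have := finiteDimensional_form r k d
  have h1 := (Groth.Agent.S4024.result k r d hd (c.W χ) (c'.W χ') (c.v χ) (c'.v χ')
    (c.v_mem_W χ) (c'.v_mem_W χ') hv).1 h
  rw [← ker_ev2, finrank_W, finrank_W] at h1
  have h2 := LinearMap.finrank_range_add_finrank_ker (ev2 c χ c' χ' d)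
  rw [← LinearMap.range_eq_top]
  apply Submodule.eq_top_of_finrank_eq
  rw [Module.finrank_fintype_fun_eq_card, Fintype.card_sum, Fintype.card_option, Fintype.card_fin]
  omega

/-- up to one condition, the conditions at two points are always independent -/
theorem exists_surjective_pair {d : ℕ} (hd : 2 ≤ d) (hv : LinearIndependent k ![c.v χ, c'.v χ']) :
    ∃ m₀, Function.Surjective (fun (H : Form r k d) (m : {m // m ≠ m₀}) => ev2 c χ c' χ' d H m.1) := by
  classical
  have := finiteDimensional_form r k d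
  apply exists_surjective_delete
  have h2 := LinearMap.finrank_range_add_finrank_ker (ev2 c χ c' χ' d)
  rw [Fintype.card_sum, Fintype.card_option, Fintype.card_fin]
  by_cases h : 3 ≤ d ∨ ¬ (c'.v χ' ∈ c.W χ ∧ c.v χ ∈ c'.W χ')
  · have h1 := (Groth.Agent.S4024.result k r d hd (c.W χ) (c'.W χ') (c.v χ) (c'.v χ')
      (c.v_mem_W χ) (c'.v_mem_W χ') hv).1 h
    rw [← ker_ev2, finrank_W, finrank_W] at h1
    omega
  · push Not at h
    have h1 := (Groth.Agent.S4024.result k r d hd (c.W χ) (c'.W χ') (c.v χ) (c'.v χ')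
      (c.v_mem_W χ) (c'.v_mem_W χ') hv).2 ⟨by omega, h.2.1, h.2.2⟩
    rw [← ker_ev2, finrank_W, finrank_W] at h1
    omega

/-- a linear relation between the coordinates at all points of the chart holds on the tangent spaces. -/
theorem W_le_span_v [IsAlgClosed k] (c : EtChart k r n) (χ : c.R →ₐ[k] k) :
    c.W χ ≤ Submodule.span k (Set.range fun ψ : c.R →ₐ[k] k => c.v ψ) := by
  classical
  have hft : Algebra.FiniteType k c.R :=
    Algebra.FiniteType.trans (S := MvPolynomial (Fin n) k) inferInstance inferInstance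
  intro x hx
  refine (Subspace.forall_mem_dualAnnihilator_apply_eq_zero_iff _ x).1 fun φ hφ => ?_
  rw [Submodule.mem_dualAnnihilator] at hφ
  have hφa : ∀ y : Fin (r + 1) → k, φ y = ∑ m, φ (Pi.single m 1) * y m := by
    intro y
    have h1 : y = ∑ m, y m • (Pi.single m 1 : Fin (r + 1) → k) := by
      ext e'
      simp [Finset.sum_apply, Pi.single_apply]
    conv_lhs => rw [h1]
    rw [map_sum]
    refine Finset.sum_congr rfl fun e _ => ?_
    rw [map_smul, smul_eq_mul, mul_comm]
  have h0 : ∑ m, (φ (Pi.single m 1)) • c.u m = 0 := by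
    apply Groth.Agent.Sga3B.RG.eq_zero_of_forall_algHom (K := k)
    intro ψ
    have h1 := hφ (c.v ψ) (Submodule.subset_span ⟨ψ, rfl⟩)
    rw [hφa] at h1
    rw [map_sum, ← h1]
    refine Finset.sum_congr rfl fun m _ => ?_
    rw [map_smul, smul_eq_mul]
    rfl
  refine Submodule.span_induction (p := fun y _ => φ y = 0) ?_ ?_ ?_ ?_ hx
  · rintro _ ⟨o, rfl⟩
    rcases o with _ | l
    · exact hφ _ (Submodule.subset_span ⟨χ, rfl⟩)
    · change φ (c.w χ l) = 0
      rw [hφa]
      have h1 := congrArg (fun z => χ (c.tay (Finsupp.single l 1) z)) h0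
      simp only [map_sum, map_smul, map_zero, smul_eq_mul] at h1
      exact h1
  · exact map_zero φ
  · intro y z _ _ hy hz
    rw [map_add, hy, hz, add_zero]
  · intro t y _ hy
    rw [map_smul, hy, smul_zero]

/-- if each point of `c'` lies in all the tangent spaces of `c` and conversely then the tangent spaces are all the same -/
theorem W_eq_W [IsAlgClosed k] (c c' : EtChart k r n)
    (h : ∀ (χ : c.R →ₐ[k] k) (χ' : c'.R →ₐ[k] k), c'.v χ' ∈ c.W χ)
    (h' : ∀ (χ : c.R →ₐ[k] k) (χ' : c'.R →ₐ[k] k), c.v χ ∈ c'.W χ')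
    (χ : c.R →ₐ[k] k) (χ' : c'.R →ₐ[k] k) : c.W χ = c'.W χ' := by
  apply le_antisymm
  · refine (W_le_span_v c χ).trans (Submodule.span_le.2 ?_)
    rintro _ ⟨ψ, rfl⟩
    exact h' ψ χ'
  · refine (W_le_span_v c' χ').trans (Submodule.span_le.2 ?_)
    rintro _ ⟨ψ, rfl⟩
    exact h χ ψ

end EtChart

section Polar

variable {k : Type u} [Field k] {r : ℕ}

/-- the polar form of a quadratic form -/
noncomputable def pol {d : ℕ} (H : Form r k d) (x w : Fin (r + 1) → k) : k := ∑ m, w m * aeval x (pderiv m H.1)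

theorem pol_eq (H : Form r k 2) (x w : Fin (r + 1) → k) :
    pol H x w = aeval (x + w) H.1 - aeval x H.1 - aeval w H.1 := by
  have h1 := Groth.Agent.Lefpen.H703.NondegQuadCrit.eval_add_quad
    (Q := H.1) ((mem_homogeneousSubmodule _ _).1 H.2) x w
  simp only [MvPolynomial.aeval_eq_eval, pol]
  rw [h1]
  ring

theorem pol_comm (H : Form r k 2) (x w : Fin (r + 1) → k) : pol H x w = pol H w x := by
  rw [pol_eq, pol_eq, add_comm x w]
  ring

theorem pol_add {d : ℕ} (H : Form r k d) (x w w' : Fin (r + 1) → k) :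
    pol H x (w + w') = pol H x w + pol H x w' := by
  simp only [pol, Pi.add_apply, add_mul, Finset.sum_add_distrib]

theorem pol_smul {d : ℕ} (H : Form r k d) (x w : Fin (r + 1) → k) (t : k) :
    pol H x (t • w) = t * pol H x w := by
  simp only [pol, Pi.smul_apply, smul_eq_mul, mul_assoc, ← Finset.mul_sum]

theorem pol_self (H : Form r k 2) (x : Fin (r + 1) → k) : pol H x x = 2 * aeval x H.1 := by
  rw [pol, EtChart.euler, nsmul_eq_mul]
  simp

/-- the null radical of a quadratic form on a subspace -/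
def nullRad (H : Form r k 2) (W : Submodule k (Fin (r + 1) → k)) : Submodule k (Fin (r + 1) → k) where
  carrier := {x | x ∈ W ∧ aeval x H.1 = 0 ∧ ∀ w ∈ W, pol H x w = 0}
  add_mem' := by
    rintro x y ⟨hx1, hx2, hx3⟩ ⟨hy1, hy2, hy3⟩
    refine ⟨W.add_mem hx1 hy1, ?_, fun w hw => ?_⟩
    · have h1 := pol_eq H x y
      rw [hx3 y hy1, hx2, hy2, sub_zero, sub_zero] at h1
      exact h1.symm
    · rw [pol_comm, pol_add, pol_comm, hx3 w hw, pol_comm, hy3 w hw, add_zero]
  zero_mem' := by
    refine ⟨W.zero_mem, ?_, fun w hw => ?_⟩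
    · have h1 := pol_eq H 0 0
      rw [add_zero] at h1
      have h2 : pol H 0 (0 : Fin (r + 1) → k) = 0 := by simp [pol]
      rw [h2] at h1
      linear_combination h1
    · rw [pol_comm]; simp [pol]
  smul_mem' := by
    rintro t x ⟨hx1, hx2, hx3⟩
    refine ⟨W.smul_mem t hx1, ?_, fun w hw => ?_⟩
    · have h1 := Groth.Agent.Lefpen.H703.Elim.eval_smul_of_isHomogeneous
        ((mem_homogeneousSubmodule _ _).1 H.2) t x
      rw [MvPolynomial.aeval_eq_eval] at hx2 ⊢
      exact h1.trans (by rw [hx2, mul_zero])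
    · rw [pol_comm, pol_smul, pol_comm, hx3 w hw, mul_zero]

end Polar

end Groth.Agent.Lefpen.H701
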