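import Groth.Agent.Lefpen.H701.PairCount

/-!
# Quadrics singular at two points, the case of a linear subspace

* `fsmall_rad`: `d = 2`; the quadratic forms `H` having, for some point `χ` of the étale chart `c`, the coordinate vector
  `v` and a second independent vector of the tangent space `W` in the null radical of `H|_W`, form a set of dimension
  `≤ N - 2`.
* `fsmall_pair`: forms of degree `d ≥ 2` singular at two points form a set of dimension `≤ N - 2`.
-/

set_option autoImplicit false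
universe u

open MvPolynomial TensorProduct

namespace Groth.Agent.Lefpen.H701

open LefPen Groth.Agent.Lefpen.H702.PolyFun Groth.Agent.Lefpen.H701.SmallDim
open Groth.Agent.Lefpen.H701.SmallDim2

namespace EtChart

variable {k : Type u} [Field k] {r n : ℕ} (c : EtChart k r n)

section Rad

variable (a₀ : Fin n)

/-- the second vector, with parameters -/
noncomputable def vs : Fin (r + 1) → MvPolynomial {a : Fin n // a ≠ a₀} c.R := fun m =>
  C (c.tay (Finsupp.single a₀ 1) (c.u m)) + ∑ a : {a : Fin n // a ≠ a₀}, X a * C (c.tay (Finsupp.single a.1 1) (c.u m))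

/-- the second vector for given parameters -/
noncomputable def vk (χ : c.R →ₐ[k] k) (s : {a : Fin n // a ≠ a₀} → k) : Fin (r + 1) → k :=
  c.w χ a₀ + ∑ a : {a : Fin n // a ≠ a₀}, s a • c.w χ a.1

theorem vs_eval (χ : c.R →ₐ[k] k) (s : {a : Fin n // a ≠ a₀} → k) (m : Fin (r + 1)) :
    MvPolynomial.aevalTower χ s (c.vs a₀ m) = c.vk a₀ χ s m := by
  rw [vs, vk, map_add, map_sum, aevalTower_C, Pi.add_apply, Finset.sum_apply]
  congr 1
  refine Finset.sum_congr rfl fun a _ => ?_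
  rw [map_mul, aevalTower_X, aevalTower_C]
  rfl

/-- the conditions -/
noncomputable def evR (d : ℕ) : (Option (Fin n) ⊕ Option {a : Fin n // a ≠ a₀}) →
    Form r k d →ₗ[k] MvPolynomial {a : Fin n // a ≠ a₀} c.R :=
  Sum.elim
    (fun o => (IsScalarTower.toAlgHom k c.R (MvPolynomial {a : Fin n // a ≠ a₀} c.R)).toLinearMap ∘ₗ
      c.tay (ex1 o) ∘ₗ c.fn)
    (fun o => o.elim ((aeval (c.vs a₀)).toLinearMap ∘ₗ (CohB1.polyGrading r k d).subtype)
      (fun a => ∑ m, (LinearMap.mulLeft k (C (c.tay (Finsupp.single a.1 1) (c.u m)) :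
          MvPolynomial {a : Fin n // a ≠ a₀} c.R)) ∘ₗ (aeval (c.vs a₀)).toLinearMap ∘ₗ
          (pderiv m).toLinearMap ∘ₗ (CohB1.polyGrading r k d).subtype))

theorem evR_inl (χ : c.R →ₐ[k] k) (s : {a : Fin n // a ≠ a₀} → k) {d : ℕ} (H : Form r k d) (o : Option (Fin n)) :
    MvPolynomial.aevalTower χ s (c.evR a₀ d (Sum.inl o) H) = c.ev χ d H o := by
  change MvPolynomial.aevalTower χ s (C (c.tay (ex1 o) (c.fn H))) = _
  rw [aevalTower_C]; rfl

theorem aeval_vs (χ : c.R →ₐ[k] k) (s : {a : Fin n // a ≠ a₀} → k) (p : MvPolynomial (Fin (r + 1)) k) :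
    MvPolynomial.aevalTower χ s (aeval (c.vs a₀) p) = aeval (c.vk a₀ χ s) p := by
  rw [← AlgHom.comp_apply, comp_aeval]
  congr 2
  funext m
  exact c.vs_eval a₀ χ s m

theorem evR_none (χ : c.R →ₐ[k] k) (s : {a : Fin n // a ≠ a₀} → k) {d : ℕ} (H : Form r k d) :
    MvPolynomial.aevalTower χ s (c.evR a₀ d (Sum.inr none) H) = aeval (c.vk a₀ χ s) H.1 := by
  change MvPolynomial.aevalTower χ s (aeval (c.vs a₀) H.1) = _
  rw [aeval_vs]

theorem evR_some (χ : c.R →ₐ[k] k) (s : {a : Fin n // a ≠ a₀} → k) {d : ℕ} (H : Form r k d)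
    (a : {a : Fin n // a ≠ a₀}) :
    MvPolynomial.aevalTower χ s (c.evR a₀ d (Sum.inr (some a)) H) = pol H (c.vk a₀ χ s) (c.w χ a.1) := by
  simp only [evR, Sum.elim_inr, Option.elim_some, LinearMap.sum_apply, LinearMap.comp_apply,
    LinearMap.mulLeft_apply, map_sum, map_mul, aevalTower_C, AlgHom.toLinearMap_apply,
    Submodule.subtype_apply, aeval_vs, Derivation.coeFn_coe, pol, w]

/-- the conditions at a point, as a linear map -/
noncomputable def evk (χ : c.R →ₐ[k] k) (s : {a : Fin n // a ≠ a₀} → k) (d : ℕ) :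
    Form r k d →ₗ[k] ((Option (Fin n) ⊕ Option {a : Fin n // a ≠ a₀}) → k) :=
  LinearMap.pi fun x => (MvPolynomial.aevalTower χ s).toLinearMap ∘ₗ c.evR a₀ d x

theorem vk_mem_W (χ : c.R →ₐ[k] k) (s : {a : Fin n // a ≠ a₀} → k) : c.vk a₀ χ s ∈ c.W χ := by
  refine (c.W χ).add_mem (c.w_mem_W χ a₀) (Submodule.sum_mem _ fun a _ => (c.W χ).smul_mem _ (c.w_mem_W χ a.1))

theorem linearIndependent_vk (χ : c.R →ₐ[k] k) (s : {a : Fin n // a ≠ a₀} → k) :
    LinearIndependent k ![c.v χ, c.vk a₀ χ s] := by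
  classical
  rw [LinearIndependent.pair_iff]
  intro x y hxy
  have h1 := Fintype.linearIndependent_iff.1 (c.linearIndependent_vw χ)
    (fun o => o.elim x (fun a => if h : a ≠ a₀ then y * s ⟨a, h⟩ else y)) (by
      rw [Fintype.sum_option, ← hxy, vk, smul_add, Finset.smul_sum]
      simp only [Option.elim_none, Option.elim_some]
      congr 1
      rw [← Finset.add_sum_erase _ _ (Finset.mem_univ a₀), dif_neg (by simp)]
      rw [Finset.sum_subtype (Finset.univ.erase a₀) (p := fun a => a ≠ a₀) (by simp)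
        (fun a => (if h : a ≠ a₀ then y * s ⟨a, h⟩ else y) • c.w χ a)]
      congr 1
      refine Finset.sum_congr rfl fun a _ => ?_
      rw [dif_pos a.2, mul_smul])
  refine ⟨h1 none, ?_⟩
  have h2 := h1 (some a₀)
  simpa using h2

/-- the null radical contains the two vectors -/
theorem mem_nullRad (χ : c.R →ₐ[k] k) (s : {a : Fin n // a ≠ a₀} → k) (H : Form r k 2)
    (h : c.evk a₀ χ s 2 H = 0) : c.Sing χ H ∧ aeval (c.vk a₀ χ s) H.1 = 0 ∧
      ∀ w ∈ c.W χ, pol H (c.vk a₀ χ s) w = 0 := by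
  have h1 : c.Sing χ H := by
    rw [sing_iff]
    funext o
    rw [← evR_inl c a₀ χ s]
    exact congrFun h (Sum.inl o)
  have h2 : aeval (c.vk a₀ χ s) H.1 = 0 := by
    rw [← evR_none]
    exact congrFun h (Sum.inr none)
  have h3 : ∀ a : {a : Fin n // a ≠ a₀}, pol H (c.vk a₀ χ s) (c.w χ a.1) = 0 := by
    intro a
    rw [← evR_some]
    exact congrFun h (Sum.inr (some a))
  refine ⟨h1, h2, ?_⟩
  have h4 : pol H (c.vk a₀ χ s) (c.v χ) = 0 := by
    rw [pol_comm]
    exact ((c.sing_iff_tangLin χ H).1 h1).2 _ (c.vk_mem_W a₀ χ s)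
  have h5 : pol H (c.vk a₀ χ s) (c.w χ a₀) = 0 := by
    have h6 := pol_self H (c.vk a₀ χ s)
    rw [h2, mul_zero] at h6
    have h7 : c.w χ a₀ = c.vk a₀ χ s + (-1 : k) • ∑ a : {a : Fin n // a ≠ a₀}, s a • c.w χ a.1 := by
      rw [vk, neg_one_smul, add_neg_cancel_right]
    rw [h7, pol_add, h6, pol_smul, zero_add]
    have h8 : pol H (c.vk a₀ χ s) (∑ a : {a : Fin n // a ≠ a₀}, s a • c.w χ a.1) = 0 := by
      have h9 : ∀ t : Finset {a : Fin n // a ≠ a₀}, pol H (c.vk a₀ χ s) (∑ a ∈ t, s a • c.w χ a.1) = 0 := by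
        intro t
        induction t using Finset.cons_induction with
        | empty => simp [pol]
        | cons a t ha ih => rw [Finset.sum_cons, pol_add, pol_smul, h3, ih, mul_zero, add_zero]
      exact h9 _
    rw [h8, mul_zero]
  intro w hw
  refine Submodule.span_induction (p := fun w _ => pol H (c.vk a₀ χ s) w = 0) ?_ ?_ ?_ ?_ hw
  · rintro _ ⟨o, rfl⟩
    rcases o with _ | l
    · exact h4
    · by_cases hl : l = a₀
      · subst hl; exact h5
      · exact h3 ⟨l, hl⟩
  · simp [pol]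
  · intro x y _ _ hx hy
    rw [pol_add, hx, hy, add_zero]
  · intro t x _ hx
    rw [pol_smul, hx, mul_zero]

theorem evk_surjective (χ : c.R →ₐ[k] k) (s : {a : Fin n // a ≠ a₀} → k) (hn : 1 ≤ n) :
    Function.Surjective (c.evk a₀ χ s 2) := by
  classical
  have := finiteDimensional_form r k 2
  have h1 := (Groth.Agent.S4024.result k r 2 (le_refl 2) (c.W χ) (c.W χ) (c.v χ) (c.vk a₀ χ s)
    (c.v_mem_W χ) (c.vk_mem_W a₀ χ s) (c.linearIndependent_vk a₀ χ s)).2
    ⟨rfl, c.vk_mem_W a₀ χ s, c.v_mem_W χ⟩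
  have h2 : LinearMap.ker (c.evk a₀ χ s 2) ≤ tangentForms k 2 (c.W χ) (c.v χ) (c.W χ) (c.vk a₀ χ s) := by
    intro H hH
    obtain ⟨h3, h4, h5⟩ := c.mem_nullRad a₀ χ s H hH
    refine ⟨?_, ?_⟩
    · exact (tangLin_apply _ _ _).2 ((c.sing_iff_tangLin χ H).1 h3)
    · exact (tangLin_apply _ _ _).2 ⟨h4, h5⟩
  have h3 := Submodule.finrank_mono h2
  have h4 := LinearMap.finrank_range_add_finrank_ker (c.evk a₀ χ s 2)
  rw [finrank_W] at h1
  rw [← LinearMap.range_eq_top]
  apply Submodule.eq_top_of_finrank_eq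
  have h5 := Submodule.finrank_le (LinearMap.range (c.evk a₀ χ s 2))
  have h6 : Module.finrank k ((Option (Fin n) ⊕ Option {a : Fin n // a ≠ a₀}) → k) = n + 1 + n := by
    rw [Module.finrank_fintype_fun_eq_card, Fintype.card_sum, Fintype.card_option, Fintype.card_option,
      Fintype.card_subtype_compl, Fintype.card_subtype_eq, Fintype.card_fin]
    omega
  rw [h6] at h5 ⊢
  omega

theorem fsmall_rad (hn : 1 ≤ n) : FSmall k r 2 ((Fintype.card (FI r 2) - 2 : ℕ) : ℕ∞)
    {H | ∃ (χ : c.R →ₐ[k] k) (s : {a : Fin n // a ≠ a₀} → k), c.Sing χ H ∧ aeval (c.vk a₀ χ s) H.1 = 0 ∧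
      ∀ w ∈ c.W χ, pol H (c.vk a₀ χ s) w = 0} := by
  classical
  have hrk : RkLE k (MvPolynomial {a : Fin n // a ≠ a₀} c.R) ((n + (n - 1) : ℕ) : ℕ∞) := by
    have h := (c.rkLE_R).mvPolynomial (σ := {a : Fin n // a ≠ a₀})
    rw [Fintype.card_subtype_compl, Fintype.card_subtype_eq, Fintype.card_fin] at h
    exact_mod_cast h
  have hcount := fsmall_count (e := n + (n - 1)) (z := 0) (t := Fintype.card (FI r 2) - 2)
    hrk (c.evR a₀ 2) (Z := {0}) (by exact_mod_cast smallDim_zero) (by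
      simp only [Fintype.card_sum, Fintype.card_option, Fintype.card_fin, Fintype.card_subtype_compl,
        Fintype.card_subtype_eq]
      omega)
  refine hcount.mono le_rfl ?_
  rintro H ⟨χ, s, h1, h2, h3⟩
  refine ⟨MvPolynomial.aevalTower χ s, c.evk_surjective a₀ χ s hn, ?_⟩
  rw [Set.mem_singleton_iff]
  funext x
  rcases x with o | _ | a
  · change MvPolynomial.aevalTower χ s (c.evR a₀ 2 (Sum.inl o) H) = 0
    rw [evR_inl, (c.sing_iff χ H).1 h1]
    rfl
  · change MvPolynomial.aevalTower χ s (c.evR a₀ 2 (Sum.inr none) H) = 0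
    rw [evR_none, h2]
  · change MvPolynomial.aevalTower χ s (c.evR a₀ 2 (Sum.inr (some a)) H) = 0
    rw [evR_some]
    exact h3 _ (c.w_mem_W χ a.1)

end Rad

section Final

variable (c' : EtChart k r n)

theorem exists_minor_of_surjective {d : ℕ} {χ : c.R →ₐ[k] k} {χ' : c'.R →ₐ[k] k}
    (h : Function.Surjective (ev2 c χ c' χ' d)) : minors c c' d ≠ ⊥ := by
  classical
  let A : Matrix (Option (Fin n) ⊕ Option (Fin n)) (FI r d) k := (mat c c' d).map (pr c c' χ χ')
  have hA : Function.Surjective A.mulVec := by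
    intro z
    obtain ⟨H, hH⟩ := h z
    refine ⟨formCoords r k d H, ?_⟩
    rw [← hH]
    funext m
    have h1 : H = ∑ e, formCoords r k d H e • (formCoords r k d).symm (Pi.single e 1) := by
      apply (formCoords r k d).injective
      rw [map_sum]
      simp only [map_smul, LinearEquiv.apply_symm_apply]
      ext e'
      simp [Finset.sum_apply, Pi.single_apply]
    conv_rhs => rw [h1]
    rw [map_sum]
    simp only [Finset.sum_apply, Matrix.mulVec, dotProduct]
    refine Finset.sum_congr rfl fun e _ => ?_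
    rw [map_smul, Pi.smul_apply, smul_eq_mul, mul_comm, ← pr_evT]
    rfl
  obtain ⟨β, -, hβ⟩ := Rk.exists_minor A hA
  intro hbot
  apply hβ
  have h2 : ((mat c c' d).submatrix id β).det = 0 := by
    have h3 : ((mat c c' d).submatrix id β).det ∈ minors c c' d := Ideal.subset_span ⟨β, rfl⟩
    rw [hbot] at h3
    exact h3
  have h4 : (A.submatrix id β).det = pr c c' χ χ' ((mat c c' d).submatrix id β).det := by
    rw [AlgHom.map_det]; rfl
  rw [h4, h2, map_zero]

/-- Forms of degree at least two singular at two points of a variety form a set of codimension at least two. -/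
theorem fsmall_pair [IsAlgClosed k] (hn : 1 ≤ n) {d : ℕ} (hd : 2 ≤ d) :
    FSmall k r d ((Fintype.card (FI r d) - 2 : ℕ) : ℕ∞)
    {H | ∃ (χ : c.R →ₐ[k] k) (χ' : c'.R →ₐ[k] k), LinearIndependent k ![c.v χ, c'.v χ'] ∧
      c.Sing χ H ∧ c'.Sing χ' H} := by
  classical
  by_cases hm : minors c c' d = ⊥
  swap
  · exact fsmall_pair_minors c c' hn hd hm
  have hns : ∀ (χ : c.R →ₐ[k] k) (χ' : c'.R →ₐ[k] k), ¬ Function.Surjective (ev2 c χ c' χ' d) :=
    fun χ χ' h => exists_minor_of_surjective c c' h hm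
  have hcase : ∀ (χ : c.R →ₐ[k] k) (χ' : c'.R →ₐ[k] k), LinearIndependent k ![c.v χ, c'.v χ'] →
      d = 2 ∧ c'.v χ' ∈ c.W χ ∧ c.v χ ∈ c'.W χ' := by
    intro χ χ' hli
    have h1 := mt (surjective_pair hd hli) (hns χ χ')
    push Not at h1
    exact ⟨by omega, h1.2.1, h1.2.2⟩
  by_cases hd2 : d = 2
  swap
  · refine (fsmall_empty _).mono le_rfl ?_
    rintro H ⟨χ, χ', h1, -⟩
    exact hd2 (hcase χ χ' h1).1
  subst hd2
  have hdep : ∀ (x y : Fin (r + 1) → k), x ≠ 0 → ¬ LinearIndependent k ![x, y] → ∃ t : k, y = t • x := by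
    intro x y hx hli
    by_contra! hcon
    apply hli
    rw [LinearIndependent.pair_iff]
    intro a b hab
    have hb : b = 0 := by
      by_contra hb
      apply hcon (-(b⁻¹ * a))
      have h1 : b⁻¹ • (a • x + b • y) = 0 := by rw [hab, smul_zero]
      rw [smul_add, smul_smul, smul_smul, inv_mul_cancel₀ hb, one_smul] at h1
      rw [neg_smul]
      exact eq_neg_of_add_eq_zero_right h1
    subst hb
    rw [zero_smul, add_zero] at hab
    exact ⟨(smul_eq_zero.1 hab).resolve_right hx, rfl⟩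
  have hW1 : ∀ (χ : c.R →ₐ[k] k) (χ' : c'.R →ₐ[k] k), c'.v χ' ∈ c.W χ := by
    intro χ χ'
    by_cases hli : LinearIndependent k ![c.v χ, c'.v χ']
    · exact (hcase χ χ' hli).2.1
    · obtain ⟨t, ht⟩ := hdep _ _ (c.v_ne_zero χ) hli
      rw [ht]
      exact (c.W χ).smul_mem _ (c.v_mem_W χ)
  have hW2 : ∀ (χ : c.R →ₐ[k] k) (χ' : c'.R →ₐ[k] k), c.v χ ∈ c'.W χ' := by
    intro χ χ'
    by_cases hli : LinearIndependent k ![c.v χ, c'.v χ']
    · exact (hcase χ χ' hli).2.2
    · have hli' : ¬ LinearIndependent k ![c'.v χ', c.v χ] := by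
        intro h
        exact hli (LinearIndependent.pair_symm_iff.1 h)
      obtain ⟨t, ht⟩ := hdep _ _ (c'.v_ne_zero χ') hli'
      rw [ht]
      exact (c'.W χ').smul_mem _ (c'.v_mem_W χ')
  have hWW := W_eq_W c c' hW1 hW2
  refine (FSmall.iUnion (fun a₀ : Fin n => c.fsmall_rad a₀ hn)).mono le_rfl ?_
  rintro H ⟨χ, χ', h1, h2, h3⟩
  have h4 := (c.sing_iff_tangLin χ H).1 h2
  have h5 := (c'.sing_iff_tangLin χ' H).1 h3
  rw [← hWW χ χ'] at h5
  have h6 : c.v χ ∈ nullRad H (c.W χ) := ⟨c.v_mem_W χ, h4.1, h4.2⟩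
  have h7 : c'.v χ' ∈ nullRad H (c.W χ) := ⟨hW1 χ χ', h5.1, h5.2⟩
  obtain ⟨g, hg⟩ := (Submodule.mem_span_range_iff_exists_fun k).1 (hW1 χ χ')
  rw [Fintype.sum_option] at hg
  simp only [Option.elim_none, Option.elim_some] at hg
  obtain ⟨a₀, ha₀⟩ : ∃ a, g (some a) ≠ 0 := by
    by_contra! hcon
    simp only [hcon, zero_smul, Finset.sum_const_zero, add_zero] at hg
    have h8 := LinearIndependent.pair_iff.1 h1 (g none) (-1) (by rw [hg, neg_one_smul, add_neg_cancel])
    exact one_ne_zero (neg_eq_zero.1 h8.2)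
  rw [Set.mem_iUnion]
  refine ⟨a₀, χ, fun a => (g (some a₀))⁻¹ * g (some a.1), h2, ?_⟩
  have h8 : c.vk a₀ χ (fun a => (g (some a₀))⁻¹ * g (some a.1)) =
      (g (some a₀))⁻¹ • (c'.v χ' - g none • c.v χ) := by
    rw [← hg, add_sub_cancel_left, ← Finset.add_sum_erase _ _ (Finset.mem_univ a₀), smul_add, smul_smul,
      inv_mul_cancel₀ ha₀, one_smul, vk]
    congr 1
    rw [Finset.sum_subtype (Finset.univ.erase a₀) (p := fun a => a ≠ a₀) (by simp)
        (fun a => g (some a) • c.w χ a), Finset.smul_sum]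
    refine Finset.sum_congr rfl fun a _ => ?_
    rw [mul_smul]
  have h9 : c.vk a₀ χ (fun a => (g (some a₀))⁻¹ * g (some a.1)) ∈ nullRad H (c.W χ) := by
    rw [h8]
    exact Submodule.smul_mem _ _ (Submodule.sub_mem _ h7 (Submodule.smul_mem _ _ h6))
  exact h9.2

end Final

end EtChart

end Groth.Agent.Lefpen.H701
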