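import Mathlib.RingTheory.AlgebraicIndependent.TranscendenceBasis
import Mathlib.Combinatorics.Matroid.Rank.ENat
import Mathlib.LinearAlgebra.Matrix.NonsingularInverse
import Mathlib.LinearAlgebra.Dimension.Finite
import Mathlib.FieldTheory.IntermediateField.Adjoin.Basic

/-!
# Transcendence rank of subsets of a field extension and linear systems
-/

set_option autoImplicit false

universe u v w

namespace Groth.Agent.Lefpen.H701.Rk

open Set

variable (k : Type u) {K : Type v} [Field k] [Field K] [Algebra k K]

/-- transcendence rank over `k` of a subset of `K`. -/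
noncomputable def rk (s : Set K) : ℕ∞ := (AlgebraicIndependent.matroid k K).eRk s

/-- relative algebraic closure of `k(s)` in `K`, as a set. -/
noncomputable def cl (s : Set K) : Set K := (AlgebraicIndependent.matroid k K).closure s

theorem mem_cl_iff {s : Set K} {a : K} :
    a ∈ cl k s ↔ IsAlgebraic (Algebra.adjoin k s) a := by
  unfold cl
  rw [AlgebraicIndependent.matroid_closure_eq]
  exact Iff.rfl

theorem subset_cl (s : Set K) : s ⊆ cl k s :=
  (AlgebraicIndependent.matroid k K).subset_closure s (by simp)

theorem cl_mono {s t : Set K} (h : s ⊆ t) : cl k s ⊆ cl k t :=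
  (AlgebraicIndependent.matroid k K).closure_subset_closure h

theorem cl_cl (s : Set K) : cl k (cl k s) = cl k s :=
  (AlgebraicIndependent.matroid k K).closure_closure s

theorem cl_subset_cl {s t : Set K} (h : s ⊆ cl k t) : cl k s ⊆ cl k t := by
  rw [← cl_cl k t]; exact cl_mono k h

theorem rk_cl (s : Set K) : rk k (cl k s) = rk k s :=
  (AlgebraicIndependent.matroid k K).eRk_closure_eq s

theorem rk_mono {s t : Set K} (h : s ⊆ t) : rk k s ≤ rk k t :=
  (AlgebraicIndependent.matroid k K).eRk_mono h

theorem rk_le_of_subset_cl {s t : Set K} (h : s ⊆ cl k t) : rk k s ≤ rk k t := by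
  rw [← rk_cl k t]; exact rk_mono k h

theorem rk_union_le (s t : Set K) : rk k (s ∪ t) ≤ rk k s + rk k t :=
  (AlgebraicIndependent.matroid k K).eRk_union_le_eRk_add_eRk s t

theorem rk_le_encard (s : Set K) : rk k s ≤ s.encard :=
  (AlgebraicIndependent.matroid k K).eRk_le_encard s

theorem rk_range_le {ι : Type w} [Fintype ι] (y : ι → K) : rk k (range y) ≤ Fintype.card ι := by
  refine (rk_le_encard k _).trans ?_
  rw [← image_univ]
  refine (encard_image_le y univ).trans ?_
  simp [Set.encard_univ]

theorem rk_range_of_algebraicIndependent {ι : Type w} [Fintype ι] {y : ι → K}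
    (hy : AlgebraicIndependent k y) : rk k (range y) = Fintype.card ι := by
  have h1 : (AlgebraicIndependent.matroid k K).Indep (range y) := by
    rw [AlgebraicIndependent.matroid_indep_iff]
    exact hy.coe_range
  unfold rk
  rw [h1.eRk_eq_encard, ← image_univ, hy.injective.encard_image]
  simp [Set.encard_univ]

theorem algebraMap_mem_cl (s : Set K) (a : k) : algebraMap k K a ∈ cl k s := by
  rw [mem_cl_iff]
  exact isAlgebraic_algebraMap (R := Algebra.adjoin k s) (A := K)
    (⟨algebraMap k K a, Subalgebra.algebraMap_mem _ a⟩ : Algebra.adjoin k s)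

/-- the closure as an intermediate field. -/
noncomputable def clField (s : Set K) : IntermediateField k K where
  toSubalgebra := (Subalgebra.algebraicClosure (Algebra.adjoin k s) K).restrictScalars k
  inv_mem' x hx := by
    have hx' : IsAlgebraic (Algebra.adjoin k s) x := hx
    show IsAlgebraic (Algebra.adjoin k s) x⁻¹
    exact hx'.inv

theorem mem_clField {s : Set K} {a : K} : a ∈ clField k s ↔ a ∈ cl k s := by
  rw [mem_cl_iff]; exact Iff.rfl

theorem coe_clField (s : Set K) : (clField k s : Set K) = cl k s := by
  ext a; exact mem_clField k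

theorem clField_isAlgebraic_mem (s : Set K) {a : K} (ha : IsAlgebraic (clField k s) a) :
    a ∈ cl k s := by
  have h : cl k (cl k s) = cl k s := cl_cl k s
  rw [← h, mem_cl_iff]
  have h1 : (Algebra.adjoin k (cl k s)) = (clField k s).toSubalgebra := by
    apply le_antisymm
    · apply Algebra.adjoin_le
      intro x hx
      exact (mem_clField k).2 hx
    · intro x hx
      exact Algebra.subset_adjoin ((mem_clField k).1 hx)
  rw [h1]
  exact ha

/-- Solving a linear system: if the square submatrix is invertible over the field `E`
then the corresponding unknowns lie in `E`. -/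
theorem mem_of_linear_system {M : Type w} [Fintype M] [DecidableEq M] (E : Subfield K)
    (C : Matrix M M K) (hC : ∀ i j, C i j ∈ E) (hdet : C.det ≠ 0) (u z : M → K)
    (hz : ∀ i, z i ∈ E) (h : C.mulVec u = z) : ∀ i, u i ∈ E := by
  intro i
  have h1 : C.adjugate.mulVec z = C.det • u := by
    rw [← h, Matrix.mulVec_mulVec, Matrix.adjugate_mul, Matrix.smul_mulVec, Matrix.one_mulVec]
  have hadj : ∀ i j, C.adjugate i j ∈ E := by
    intro i j
    let C' : Matrix M M E := fun i j => ⟨C i j, hC i j⟩
    have h2 : C = C'.map E.subtype := by ext i j; rfl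
    have h3 : C.adjugate = C'.adjugate.map E.subtype := by
      rw [h2]; exact (RingHom.map_adjugate E.subtype C').symm
    rw [h3]
    exact (C'.adjugate i j).2
  have hd : C.det ∈ E := by
    let C' : Matrix M M E := fun i j => ⟨C i j, hC i j⟩
    have h2 : C = C'.map E.subtype := by ext i j; rfl
    rw [h2]
    have h3 : (C'.map E.subtype).det = E.subtype C'.det := (RingHom.map_det E.subtype C').symm
    rw [h3]
    exact (C'.det).2
  have h4 : (C.adjugate.mulVec z) i ∈ E := by
    simp only [Matrix.mulVec, dotProduct]
    exact sum_mem fun j _ => mul_mem (hadj i j) (hz j)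
  rw [h1] at h4
  simp only [Pi.smul_apply, smul_eq_mul] at h4
  have h5 : u i = (C.det)⁻¹ * (C.det * u i) := by field_simp
  rw [h5]
  exact mul_mem (inv_mem hd) h4

/-- a surjective linear map `K^ι → K^M` has an invertible square submatrix. -/
theorem exists_minor {M ι : Type w} [Fintype M] [DecidableEq M] [Fintype ι] 
    (C : Matrix M ι K) (hC : Function.Surjective C.mulVec) :
    ∃ β : M → ι, Function.Injective β ∧ (C.submatrix id β).det ≠ 0 := by
  classical
  have hspan : Submodule.span K (range C.col) = ⊤ := by
    rw [← Matrix.range_mulVecLin]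
    exact LinearMap.range_eq_top.2 hC
  obtain ⟨b, hb, hbspan, hbli⟩ := exists_linearIndependent K (range C.col)
  rw [hspan] at hbspan
  have hbase : ⊤ ≤ Submodule.span K (range ((↑) : b → (M → K))) := by
    rw [Subtype.range_coe, hbspan]
  let B : Module.Basis b K (M → K) := Module.Basis.mk hbli hbase
  have hfin : Finite b := Module.Finite.finite_basis B
  have : Fintype b := Fintype.ofFinite b
  have hcard : Fintype.card M = Fintype.card b := by
    rw [← Module.finrank_eq_card_basis B]; simp
  let e : M ≃ b := Fintype.equivOfCardEq hcard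
  have hch : ∀ m : M, ∃ i : ι, C.col i = (e m : M → K) := fun m => hb (e m).2
  choose β hβ using hch
  refine ⟨β, ?_, ?_⟩
  · intro m m' hmm
    have := hβ m
    rw [hmm, hβ m'] at this
    exact (e.injective (Subtype.ext this.symm))
  · have hli : LinearIndependent K (C.submatrix id β).col := by
      have h1 : (C.submatrix id β).col = (fun m => (e m : M → K)) := by
        funext m; rw [← hβ m]; rfl
      rw [h1]
      exact hbli.comp e e.injective
    rw [Matrix.linearIndependent_cols_iff_isUnit, Matrix.isUnit_iff_isUnit_det] at hli
    exact hli.ne_zero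

/-- The basic count: if `C y = z` with `C` of full rank `|M|` and entries algebraic over `k(t)`,
then `y` has rank at most `rk t + rk z + (|ι| - |M|)`. -/
theorem rk_le_of_linear_system {M ι : Type w} [Fintype M] [DecidableEq M] [Fintype ι]
    (t : Set K) (C : Matrix M ι K) (hCt : ∀ i j, C i j ∈ cl k t)
    (hC : Function.Surjective C.mulVec) (y : ι → K) (z : M → K) (h : C.mulVec y = z) :
    rk k (range y) ≤ rk k t + rk k (range z) + ((Fintype.card ι - Fintype.card M : ℕ) : ℕ∞) := by
  classical
  obtain ⟨β, hβ, hdet⟩ := exists_minor C hC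
  let rest : Set K := y '' ((range β)ᶜ)
  have hE : range y ⊆ cl k (t ∪ range z ∪ rest) := by
    set E := clField k (t ∪ range z ∪ rest) with hEdef
    have hrest : ∀ j, j ∉ range β → y j ∈ E := by
      intro j hj
      exact (mem_clField k).2 (subset_cl k _ (Or.inr ⟨j, hj, rfl⟩))
    have hCE : ∀ i j, C i j ∈ E := fun i j =>
      (mem_clField k).2 (cl_mono k (subset_union_left.trans subset_union_left) (hCt i j))
    have hzE : ∀ i, z i ∈ E := fun i =>
      (mem_clField k).2 (subset_cl k _ (Or.inl (Or.inr ⟨i, rfl⟩)))
    have hsys : (C.submatrix id β).mulVec (y ∘ β) =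
        fun m => z m - ∑ j ∈ Finset.univ.filter (fun j => j ∉ range β), C m j * y j := by
      funext m
      have h1 : z m = ∑ j, C m j * y j := by rw [← h]; rfl
      rw [h1, ← Finset.sum_filter_add_sum_filter_not Finset.univ (fun j => j ∈ range β)
        (fun j => C m j * y j), add_sub_cancel_right]
      simp only [Matrix.mulVec, dotProduct, Matrix.submatrix_apply, id_eq, Function.comp_apply]
      symm
      refine Finset.sum_nbij' (i := fun j => if hj : j ∈ range β then hj.choose else
          (Classical.choice ⟨m⟩)) (j := β) ?_ ?_ ?_ ?_ ?_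
      · intro a _; exact Finset.mem_univ _
      · intro a _; simp
      · intro a ha
        have ha' : a ∈ range β := (Finset.mem_filter.1 ha).2
        simp only [ha', dif_pos]
        exact ha'.choose_spec
      · intro a _
        have ha' : β a ∈ range β := ⟨a, rfl⟩
        simp only [ha', dif_pos]
        exact hβ ha'.choose_spec
      · intro a ha
        have ha' : a ∈ range β := (Finset.mem_filter.1 ha).2
        simp only [ha', dif_pos]
        rw [ha'.choose_spec]
    have hu := mem_of_linear_system (E := E.toSubfield) (C.submatrix id β)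
      (fun i j => hCE i (β j)) hdet (y ∘ β) _ (fun m => ?_) hsys
    · rintro _ ⟨j, rfl⟩
      by_cases hj : j ∈ range β
      · obtain ⟨m, rfl⟩ := hj
        exact (mem_clField k).1 (hu m)
      · exact (mem_clField k).1 (hrest j hj)
    · refine sub_mem (hzE m) (sum_mem fun j hj => mul_mem (hCE m j) (hrest j ?_))
      exact (Finset.mem_filter.1 hj).2
  refine (rk_le_of_subset_cl k hE).trans ?_
  refine (rk_union_le k _ _).trans (add_le_add (rk_union_le k _ _) ?_)
  refine (rk_le_encard k _).trans ?_
  refine (encard_image_le _ _).trans ?_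
  have h3 : ((range β)ᶜ).encard = ((Fintype.card ι - Fintype.card M : ℕ) : ℕ∞) := by
    rw [← Set.coe_toFinset ((range β)ᶜ), Set.encard_coe_eq_coe_finsetCard, Set.toFinset_compl,
      Finset.card_compl, Set.toFinset_range, Finset.card_image_of_injective _ hβ,
      Finset.card_univ]
  rw [h3]

end Groth.Agent.Lefpen.H701.Rk
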