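import Groth.Agent.Lefpen.H701.Rk
import Mathlib.RingTheory.TensorProduct.Basic
import Mathlib.Algebra.MvPolynomial.Eval
import Mathlib.RingTheory.Localization.AtPrime.Basic
import Mathlib.RingTheory.Localization.Ideal

/-!
# Small dimension: subsets of affine space covered by images of small algebras
-/

set_option autoImplicit false

universe u

namespace Groth.Agent.Lefpen.H701.SmallDim

open Set Rk MvPolynomial TensorProduct

variable (k : Type u) [Field k]

/-- every point of `A` in a field has transcendence rank at most `m`. -/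
def RkLE (A : Type u) [CommRing A] [Algebra k A] (m : ℕ∞) : Prop :=
  ∀ (K : Type u) [Field K] [Algebra k K] (ψ : A →ₐ[k] K), rk k (Set.range ψ) ≤ m

/-- `T ⊆ k^ι` is contained in the image of the `k`-points of a `k`-algebra `A` under a map given by
elements `a i` of `A` such that for every field-valued point of `A` the rank of the `a i` is at most `m`. -/
def SmallDim {ι : Type} (m : ℕ∞) (T : Set (ι → k)) : Prop :=
  ∃ (A : Type u) (_ : CommRing A) (_ : Algebra k A) (a : ι → A),
    (∀ t ∈ T, ∃ χ : A →ₐ[k] k, ∀ i, χ (a i) = t i) ∧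
    ∀ (K : Type u) [Field K] [Algebra k K] (ψ : A →ₐ[k] K), rk k (Set.range fun i => ψ (a i)) ≤ m

variable {k}

theorem SmallDim.mono {ι : Type} {m m' : ℕ∞} {T T' : Set (ι → k)} (h : SmallDim k m T)
    (hm : m ≤ m') (hT : T' ⊆ T) : SmallDim k m' T' := by
  obtain ⟨A, i1, i2, a, h1, h2⟩ := h
  exact ⟨A, i1, i2, a, fun t ht => h1 t (hT ht), fun K _ _ ψ => (h2 K ψ).trans hm⟩

theorem smallDim_empty {ι : Type} (m : ℕ∞) : SmallDim k m (∅ : Set (ι → k)) := by
  refine ⟨PUnit, inferInstance, inferInstance, fun _ => PUnit.unit, fun t ht => ht.elim, ?_⟩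
  intro K _ _ ψ
  exfalso
  have h1 : ψ 1 = 1 := map_one ψ
  have h2 : ψ 0 = 0 := map_zero ψ
  have h3 : (1 : PUnit.{u+1}) = 0 := rfl
  rw [h3, h2] at h1
  exact zero_ne_one h1

theorem SmallDim.union {ι : Type} {m : ℕ∞} {T T' : Set (ι → k)} (h : SmallDim k m T)
    (h' : SmallDim k m T') : SmallDim k m (T ∪ T') := by
  obtain ⟨A, i1, i2, a, h1, h2⟩ := h
  obtain ⟨B, j1, j2, b, h3, h4⟩ := h'
  refine ⟨A × B, inferInstance, inferInstance, fun i => (a i, b i), ?_, ?_⟩
  · rintro t (ht | ht)
    · obtain ⟨χ, hχ⟩ := h1 t ht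
      exact ⟨χ.comp (AlgHom.fst k A B), fun i => hχ i⟩
    · obtain ⟨χ, hχ⟩ := h3 t ht
      exact ⟨χ.comp (AlgHom.snd k A B), fun i => hχ i⟩
  · intro K _ _ ψ
    have hmul : ψ (1, 0) * ψ (0, 1) = 0 := by
      have : ((1, 0) : A × B) * (0, 1) = 0 := by ext <;> simp
      rw [← map_mul, this, map_zero]
    have hadd : ψ (1, 0) + ψ (0, 1) = 1 := by
      have : ((1, 0) : A × B) + (0, 1) = 1 := by ext <;> simp
      rw [← map_add, this, map_one]
    rcases mul_eq_zero.1 hmul with h0 | h0
    · have h01 : ψ (0, 1) = 1 := by simpa [h0] using hadd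
      let ψB : B →ₐ[k] K :=
        { toFun := fun b => ψ (0, b)
          map_one' := h01
          map_mul' := fun x y => by rw [← map_mul]; simp
          map_zero' := by
            have : ((0, 0) : A × B) = 0 := rfl
            rw [this, map_zero]
          map_add' := fun x y => by rw [← map_add]; simp
          commutes' := fun c => by
            have : ((0 : A), algebraMap k B c) = (0, 1) * algebraMap k (A × B) c := by
              ext <;> simp
            rw [this, map_mul, h01, one_mul, AlgHom.commutes] }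
      have h5 : (fun i => ψ (a i, b i)) = fun i => ψB (b i) := by
        funext i
        have : (a i, b i) = (1, 0) * (a i, b i) + (0, b i) := by simp
        rw [this, map_add, map_mul, h0, zero_mul, zero_add]
        rfl
      rw [h5]
      exact h4 K ψB
    · have h01 : ψ (1, 0) = 1 := by simpa [h0] using hadd
      let ψA : A →ₐ[k] K :=
        { toFun := fun b => ψ (b, 0)
          map_one' := h01
          map_mul' := fun x y => by rw [← map_mul]; simp
          map_zero' := by
            have : ((0, 0) : A × B) = 0 := rfl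
            rw [this, map_zero]
          map_add' := fun x y => by rw [← map_add]; simp
          commutes' := fun c => by
            have : (algebraMap k A c, (0 : B)) = (1, 0) * algebraMap k (A × B) c := by
              ext <;> simp
            rw [this, map_mul, h01, one_mul, AlgHom.commutes] }
      have h5 : (fun i => ψ (a i, b i)) = fun i => ψA (a i) := by
        funext i
        have : (a i, b i) = (0, 1) * (a i, b i) + (a i, 0) := by simp
        rw [this, map_add, map_mul, h0, zero_mul, zero_add]
        rfl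
      rw [h5]
      exact h2 K ψA

theorem SmallDim.iUnion {ι : Type} {m : ℕ∞} {α : Type*} [Finite α] {T : α → Set (ι → k)}
    (h : ∀ a, SmallDim k m (T a)) : SmallDim k m (⋃ a, T a) := by
  classical
  have := Fintype.ofFinite α
  have h1 : ∀ s : Finset α, SmallDim k m (⋃ a ∈ s, T a) := by
    intro s
    induction s using Finset.induction_on with
    | empty => simpa using smallDim_empty m
    | insert a s ha ih =>
      rw [Finset.set_biUnion_insert]
      exact (h a).union ih
  simpa using h1 Finset.univ

/-- If the dimension is smaller than that of the ambient space, there is a nonzero polynomial vanishing. -/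
theorem SmallDim.exists_polynomial {ι : Type} [Fintype ι] {m : ℕ∞} {T : Set (ι → k)}
    (h : SmallDim k m T) (hm : m < Fintype.card ι) :
    ∃ f : MvPolynomial ι k, f ≠ 0 ∧ ∀ t ∈ T, aeval t f = 0 := by
  obtain ⟨A, i1, i2, a, h1, h2⟩ := h
  by_contra hcon
  have hinj : Function.Injective (aeval a : MvPolynomial ι k →ₐ[k] A) := by
    rw [injective_iff_map_eq_zero]
    intro f hf
    by_contra hf0
    refine hcon ⟨f, hf0, fun t ht => ?_⟩
    obtain ⟨χ, hχ⟩ := h1 t ht
    have h3 : aeval t f = χ (aeval a f) := by
      rw [← AlgHom.comp_apply, comp_aeval]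
      congr 2
      funext i; exact (hχ i).symm
    rw [h3, hf, map_zero]
  -- localise at the image of the nonzero polynomials
  let S : Submonoid A := (nonZeroDivisors (MvPolynomial ι k)).map (aeval a : MvPolynomial ι k →ₐ[k] A)
  have hS : (0 : A) ∉ S := by
    rintro ⟨f, hf, hf0⟩
    have : f = 0 := hinj (by simpa using hf0)
    exact nonZeroDivisors.ne_zero hf this
  have hnt : Nontrivial (Localization S) := by
    refine ⟨⟨0, 1, ?_⟩⟩
    intro h01
    have h02 : (algebraMap A (Localization S)) 1 = 0 := by rw [map_one]; exact h01.symm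
    rw [IsLocalization.map_eq_zero_iff S] at h02
    obtain ⟨⟨m, hm⟩, hm'⟩ := h02
    have hm0 : m = 0 := by simpa using hm'
    exact hS (hm0 ▸ hm)
  obtain ⟨P, hP⟩ := Ideal.exists_maximal (Localization S)
  let _ : Field (Localization S ⧸ P) := Ideal.Quotient.field P
  let ψ : A →ₐ[k] (Localization S ⧸ P) :=
    (Ideal.Quotient.mkₐ k P).comp (IsScalarTower.toAlgHom k A (Localization S))
  have h5 := h2 _ ψ
  have hind : AlgebraicIndependent k (fun i => ψ (a i)) := by
    rw [algebraicIndependent_iff]
    intro f hf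
    by_contra hf0
    have h6 : IsUnit (algebraMap A (Localization S) (aeval a f)) :=
      IsLocalization.map_units (Localization S)
        (⟨aeval a f, f, mem_nonZeroDivisors_of_ne_zero hf0, rfl⟩ : S)
    have h7 : IsUnit (ψ (aeval a f)) := h6.map (Ideal.Quotient.mkₐ k P)
    have h8 : ψ (aeval a f) = aeval (fun i => ψ (a i)) f := by
      rw [← AlgHom.comp_apply, comp_aeval]
    rw [h8, hf] at h7
    exact not_isUnit_zero h7
  rw [rk_range_of_algebraicIndependent k hind] at h5
  exact absurd hm (not_lt.2 h5)

section RkLE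

variable {A B : Type u} [CommRing A] [Algebra k A] [CommRing B] [Algebra k B]

theorem RkLE.mono {m m' : ℕ∞} (h : RkLE k A m) (hm : m ≤ m') : RkLE k A m' :=
  fun K _ _ ψ => (h K ψ).trans hm

theorem RkLE.of_surjective {m : ℕ∞} (h : RkLE k A m) (f : A →ₐ[k] B)
    (hf : Function.Surjective f) : RkLE k B m := by
  intro K _ _ ψ
  refine (rk_mono k ?_).trans (h K (ψ.comp f))
  rintro _ ⟨b, rfl⟩
  obtain ⟨a, rfl⟩ := hf b
  exact ⟨a, rfl⟩

theorem RkLE.tensor {m m' : ℕ∞} (h : RkLE k A m) (h' : RkLE k B m') :
    RkLE k (A ⊗[k] B) (m + m') := by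
  intro K _ _ ψ
  have h1 : Set.range ψ ⊆ cl k (Set.range (ψ.comp (Algebra.TensorProduct.includeLeft (R := k) (S := k) (A := A) (B := B))) ∪
      Set.range (ψ.comp (Algebra.TensorProduct.includeRight (R := k) (A := A) (B := B)))) := by
    rintro _ ⟨x, rfl⟩
    rw [← mem_clField]
    induction x using TensorProduct.induction_on with
    | zero => rw [map_zero]; exact zero_mem _
    | tmul a b =>
      have : a ⊗ₜ[k] b = (Algebra.TensorProduct.includeLeft (R := k) (S := k) (A := A) (B := B)) a *
          (Algebra.TensorProduct.includeRight (R := k) (A := A) (B := B)) b := by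
        simp
      rw [this, map_mul]
      refine mul_mem ?_ ?_
      · rw [mem_clField]
        exact subset_cl k _ (Or.inl ⟨a, rfl⟩)
      · rw [mem_clField]
        exact subset_cl k _ (Or.inr ⟨b, rfl⟩)
    | add x y hx hy => rw [map_add]; exact add_mem hx hy
  refine (rk_le_of_subset_cl k h1).trans ((rk_union_le k _ _).trans (add_le_add ?_ ?_))
  · exact h K _
  · exact h' K _

theorem RkLE.mvPolynomial {σ : Type} [Fintype σ] {m : ℕ∞} (h : RkLE k A m) :
    RkLE k (MvPolynomial σ A) (m + Fintype.card σ) := by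
  intro K _ _ ψ
  have h1 : Set.range ψ ⊆ cl k (Set.range (ψ.comp (IsScalarTower.toAlgHom k A (MvPolynomial σ A))) ∪
      Set.range (fun s : σ => ψ (X s))) := by
    rintro _ ⟨x, rfl⟩
    rw [← mem_clField]
    induction x using MvPolynomial.induction_on with
    | C a =>
      rw [mem_clField]
      exact subset_cl k _ (Or.inl ⟨a, rfl⟩)
    | add x y hx hy => rw [map_add]; exact add_mem hx hy
    | mul_X p s hp =>
      rw [map_mul]
      refine mul_mem hp ?_
      rw [mem_clField]
      exact subset_cl k _ (Or.inr ⟨s, rfl⟩)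
  refine (rk_le_of_subset_cl k h1).trans ((rk_union_le k _ _).trans (add_le_add ?_ ?_))
  · exact h K _
  · exact rk_range_le k _

end RkLE

/-- the basic construction: pairs (point of `R` where `g` does not vanish, point `y` of affine space) such that
`C y` lies in `Z`. -/
theorem smallDim_aux {M ι : Type} [Fintype M] [DecidableEq M] [Fintype ι] {R : Type u} [CommRing R]
    [Algebra k R] {e z : ℕ∞} (hR : RkLE k R e) (C : Matrix M ι R) {Z : Set (M → k)}
    (hZ : SmallDim k z Z) (β : M → ι) :
    SmallDim k (e + z + ((Fintype.card ι - Fintype.card M : ℕ) : ℕ∞))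
      {y | ∃ χ : R →ₐ[k] k, χ ((C.submatrix id β).det) ≠ 0 ∧ (C.map χ).mulVec y ∈ Z} := by
  obtain ⟨B, j1, j2, b, h3, h4⟩ := hZ
  let A₀ := R ⊗[k] B
  let incR : R →ₐ[k] A₀ := Algebra.TensorProduct.includeLeft
  let incB : B →ₐ[k] A₀ := Algebra.TensorProduct.includeRight
  let g : R := (C.submatrix id β).det
  -- variables: `Option ι`, `none` is the inverse of `g`
  let I : Ideal (MvPolynomial (Option ι) A₀) := Ideal.span
    ({MvPolynomial.C (incR g) * X none - 1} ∪ Set.range (fun m : M =>
      (∑ i, MvPolynomial.C (incR (C m i)) * X (some i)) - MvPolynomial.C (incB (b m))))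
  refine ⟨MvPolynomial (Option ι) A₀ ⧸ I, inferInstance, inferInstance,
    fun i => Ideal.Quotient.mk I (X (some i)), ?_, ?_⟩
  · rintro y ⟨χ, hχg, hχ⟩
    obtain ⟨χB, hχB⟩ := h3 _ hχ
    let χ₀ : A₀ →ₐ[k] k := Algebra.TensorProduct.lift χ χB (fun _ _ => Commute.all _ _)
    have hχ₀R : ∀ a, χ₀ (incR a) = χ a := fun a => by
      change Algebra.TensorProduct.lift χ χB _ (a ⊗ₜ[k] (1 : B)) = χ a
      rw [Algebra.TensorProduct.lift_tmul, map_one, mul_one]
    have hχ₀B : ∀ a, χ₀ (incB a) = χB a := fun a => by
      change Algebra.TensorProduct.lift χ χB _ ((1 : R) ⊗ₜ[k] a) = χB a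
      rw [Algebra.TensorProduct.lift_tmul, map_one, one_mul]
    let val : Option ι → k := fun o => o.elim (χ g)⁻¹ y
    let χ₁ : MvPolynomial (Option ι) A₀ →ₐ[k] k := aevalTower χ₀ val
    have hI : ∀ x ∈ I, χ₁ x = 0 := by
      intro x hx
      have : I ≤ RingHom.ker χ₁ := by
        rw [Ideal.span_le]
        rintro x (hx | ⟨m, rfl⟩)
        · rw [Set.mem_singleton_iff] at hx
          subst hx
          rw [SetLike.mem_coe, RingHom.mem_ker, map_sub, map_mul, map_one]
          simp only [χ₁, aevalTower_C, aevalTower_X, val, Option.elim]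
          rw [hχ₀R, mul_inv_cancel₀ hχg, sub_self]
        · rw [SetLike.mem_coe, RingHom.mem_ker, map_sub, map_sum]
          simp only [map_mul, χ₁, aevalTower_C, aevalTower_X, val, Option.elim]
          rw [hχ₀B, hχB]
          simp only [hχ₀R]
          rw [sub_eq_zero]
          rfl
      exact this hx
    refine ⟨Ideal.Quotient.liftₐ I χ₁ hI, fun i => ?_⟩
    change χ₁ (X (some i)) = y i
    simp only [χ₁, aevalTower_X, val, Option.elim]
  · intro K _ _ ψ
    let π : MvPolynomial (Option ι) A₀ →ₐ[k] MvPolynomial (Option ι) A₀ ⧸ I := Ideal.Quotient.mkₐ k I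
    let ψR : R →ₐ[k] K := (ψ.comp π).comp
      ((IsScalarTower.toAlgHom k A₀ (MvPolynomial (Option ι) A₀)).comp incR)
    let ψB : B →ₐ[k] K := (ψ.comp π).comp
      ((IsScalarTower.toAlgHom k A₀ (MvPolynomial (Option ι) A₀)).comp incB)
    have hCR : ∀ a, ψR a = ψ (π (MvPolynomial.C (incR a))) := fun a => rfl
    have hCB : ∀ a, ψB a = ψ (π (MvPolynomial.C (incB a))) := fun a => rfl
    have hgne : ψR g ≠ 0 := by
      intro h0
      have h1 : π (MvPolynomial.C (incR g) * X none - 1) = 0 :=
        Ideal.Quotient.eq_zero_iff_mem.2 (Ideal.subset_span (Or.inl rfl))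
      have h2 : ψ (π (MvPolynomial.C (incR g) * X none - 1)) = 0 := by rw [h1, map_zero]
      rw [map_sub, map_mul, map_one, map_sub, map_mul, map_one, ← hCR, h0, zero_mul, zero_sub,
        neg_eq_zero] at h2
      exact one_ne_zero h2
    have hsys : (C.map ψR).mulVec (fun i => ψ (π (X (some i)))) = fun m => ψB (b m) := by
      funext m
      have h1 : π ((∑ i, MvPolynomial.C (incR (C m i)) * X (some i)) - MvPolynomial.C (incB (b m))) = 0 :=
        Ideal.Quotient.eq_zero_iff_mem.2 (Ideal.subset_span (Or.inr ⟨m, rfl⟩))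
      have h2 : ψ (π ((∑ i, MvPolynomial.C (incR (C m i)) * X (some i)) -
        MvPolynomial.C (incB (b m)))) = 0 := by rw [h1, map_zero]
      rw [map_sub, map_sub, map_sum, map_sum, sub_eq_zero] at h2
      simp only [map_mul] at h2
      exact h2
    have hsurj : Function.Surjective (C.map ψR).mulVec := by
      have hdet : ((C.map ψR).submatrix id β).det ≠ 0 := by
        have h1 : (C.map ψR).submatrix id β = (C.submatrix id β).map ψR := rfl
        rw [h1]
        have h2 : ((C.submatrix id β).map ψR).det = ψR ((C.submatrix id β).det) :=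
          (RingHom.map_det ψR.toRingHom _).symm
        rw [h2]
        exact hgne
      have hinjβ : Function.Injective β := by
        intro m m' hmm
        by_contra hne
        apply hdet
        exact Matrix.det_zero_of_column_eq hne (fun i => by simp [hmm])
      intro w
      have hunit : IsUnit ((C.map ψR).submatrix id β) := by
        rw [Matrix.isUnit_iff_isUnit_det]; exact isUnit_iff_ne_zero.2 hdet
      obtain ⟨u, hu⟩ := (Matrix.mulVec_surjective_iff_isUnit.2 hunit) w
      classical
      refine ⟨fun i => ∑ m ∈ Finset.univ.filter (fun m => β m = i), u m, ?_⟩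
      rw [← hu]
      funext m
      simp only [Matrix.mulVec, dotProduct, Matrix.submatrix_apply, id_eq, Finset.mul_sum]
      rw [Finset.sum_sigma']
      refine Finset.sum_nbij' (i := fun p => p.2) (j := fun m' => ⟨β m', m'⟩) ?_ ?_ ?_ ?_ ?_
      · intro p _; exact Finset.mem_univ _
      · intro m' _; simp
      · rintro ⟨i, m'⟩ hp
        simp only [Finset.mem_sigma, Finset.mem_univ, Finset.mem_filter, true_and] at hp
        simp [hp]
      · intro m' _; rfl
      · rintro ⟨i, m'⟩ hp
        simp only [Finset.mem_sigma, Finset.mem_univ, Finset.mem_filter, true_and] at hp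
        simp [hp]
    have h7 := rk_le_of_linear_system k (Set.range ψR) (C.map ψR)
      (fun i j => subset_cl k _ ⟨C i j, rfl⟩) hsurj _ _ hsys
    refine h7.trans ?_
    gcongr
    · exact hR K ψR
    · exact h4 K ψB

/-- **The count.**  `C : Matrix M ι R`, `Z ⊆ k^M` of small dimension `z`, `R` of dimension `≤ e`.  The set of `y`
such that `C_χ y ∈ Z` for some `k`-point `χ` of `R` at which `C_χ` has full rank has dimension
at most `e + z + |ι| - |M|`. -/
theorem smallDim_count {M ι : Type} [Fintype M] [DecidableEq M] [Fintype ι] {R : Type u} [CommRing R]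
    [Algebra k R] {e z : ℕ∞} (hR : RkLE k R e) (C : Matrix M ι R) {Z : Set (M → k)}
    (hZ : SmallDim k z Z) :
    SmallDim k (e + z + ((Fintype.card ι - Fintype.card M : ℕ) : ℕ∞))
      {y | ∃ χ : R →ₐ[k] k, Function.Surjective (C.map χ).mulVec ∧ (C.map χ).mulVec y ∈ Z} := by
  classical
  refine (SmallDim.iUnion (fun β : M → ι => smallDim_aux hR C hZ β)).mono le_rfl ?_
  rintro y ⟨χ, hχ, hy⟩
  obtain ⟨β, -, hβ⟩ := exists_minor (C.map χ) hχ
  rw [Set.mem_iUnion]
  refine ⟨β, χ, ?_, hy⟩
  have h1 : (C.map χ).submatrix id β = (C.submatrix id β).map χ := rfl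
  rw [h1] at hβ
  have h2 : ((C.submatrix id β).map χ).det = χ ((C.submatrix id β).det) :=
    (RingHom.map_det χ.toRingHom _).symm
  rwa [h2] at hβ

/-- a single point has dimension 0 (used for `Z = {0}`). -/
theorem smallDim_zero {M : Type} : SmallDim k 0 ({0} : Set (M → k)) := by
  refine ⟨k, inferInstance, inferInstance, fun _ => 0, ?_, ?_⟩
  · rintro t rfl
    exact ⟨AlgHom.id k k, fun i => rfl⟩
  · intro K _ _ ψ
    have h1 : Set.range (fun _ : M => ψ 0) ⊆ cl k (∅ : Set K) := by
      rintro _ ⟨i, rfl⟩
      rw [map_zero, ← mem_clField]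
      exact zero_mem _
    refine (rk_le_of_subset_cl k h1).trans ?_
    exact (rk_le_encard k _).trans (by simp)

end Groth.Agent.Lefpen.H701.SmallDim
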