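import Groth.Agent.Lefpen.H701.SmallDim
import Groth.Agent.CalgC.DimFT
import Mathlib.RingTheory.Etale.Basic
import Mathlib.RingTheory.Unramified.Finite
import Mathlib.RingTheory.Polynomial.Basic

/-!
# More on small dimension
-/

set_option autoImplicit false

universe u

namespace Groth.Agent.Lefpen.H701.SmallDim2

open Set Rk MvPolynomial TensorProduct SmallDim

variable {k : Type u} [Field k]

/-- pencils meeting a small set -/
theorem smallDim_pencil {ι : Type} [Fintype ι] {m : ℕ∞} {T : Set (ι → k)} (h : SmallDim k m T) :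
    SmallDim k (m + 1 + Fintype.card ι)
      {p : ι ⊕ ι → k | ∃ b : k, (fun i => p (Sum.inl i) - b * p (Sum.inr i)) ∈ T} := by
  obtain ⟨A, i1, i2, a, h1, h2⟩ := h
  refine ⟨MvPolynomial (Option ι) A, inferInstance, inferInstance,
    Sum.elim (fun i => MvPolynomial.C (a i) + X none * X (some i)) (fun i => X (some i)), ?_, ?_⟩
  · rintro p ⟨b, hb⟩
    obtain ⟨χ, hχ⟩ := h1 _ hb
    refine ⟨aevalTower χ (fun o : Option ι => o.elim b (fun i => p (Sum.inr i))), ?_⟩
    rintro (i | i)
    · simp only [Sum.elim_inl, map_add, map_mul, aevalTower_C, aevalTower_X, Option.elim, hχ]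
      ring
    · simp only [Sum.elim_inr, aevalTower_X, Option.elim]
  · intro K _ _ ψ
    let ψA : A →ₐ[k] K := ψ.comp (IsScalarTower.toAlgHom k A (MvPolynomial (Option ι) A))
    have h3 : (Set.range fun i => ψ (Sum.elim (fun i => MvPolynomial.C (a i) + X none * X (some i))
        (fun i => X (some i)) i : MvPolynomial (Option ι) A)) ⊆
        cl k ((Set.range (fun i => ψA (a i)) ∪ {ψ (X none)}) ∪ Set.range (fun i => ψ (X (some i)))) := by
      rintro _ ⟨i | i, rfl⟩
      · simp only [Sum.elim_inl, map_add, map_mul]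
        rw [← mem_clField]
        refine add_mem ?_ (mul_mem ?_ ?_)
        · rw [mem_clField]; exact subset_cl k _ (Or.inl (Or.inl ⟨i, rfl⟩))
        · rw [mem_clField]; exact subset_cl k _ (Or.inl (Or.inr rfl))
        · rw [mem_clField]; exact subset_cl k _ (Or.inr ⟨i, rfl⟩)
      · simp only [Sum.elim_inr]
        exact subset_cl k _ (Or.inr ⟨i, rfl⟩)
    refine (rk_le_of_subset_cl k h3).trans ((rk_union_le k _ _).trans
      (add_le_add ((rk_union_le k _ _).trans (add_le_add (h2 K ψA) ?_)) (rk_range_le k _)))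
    exact (rk_le_encard k _).trans (by simp)

theorem smallDim_inr {ι ι' : Type} [Fintype ι'] {m : ℕ∞} {T : Set (ι → k)} (h : SmallDim k m T) :
    SmallDim k (m + Fintype.card ι') {p : ι' ⊕ ι → k | (fun i => p (Sum.inr i)) ∈ T} := by
  obtain ⟨A, i1, i2, a, h1, h2⟩ := h
  refine ⟨MvPolynomial ι' A, inferInstance, inferInstance,
    Sum.elim (fun i => X i) (fun i => MvPolynomial.C (a i)), ?_, ?_⟩
  · rintro p hp
    obtain ⟨χ, hχ⟩ := h1 _ hp
    refine ⟨aevalTower χ (fun i => p (Sum.inl i)), ?_⟩
    rintro (i | i)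
    · simp only [Sum.elim_inl, aevalTower_X]
    · simp only [Sum.elim_inr, aevalTower_C, hχ]
  · intro K _ _ ψ
    let ψA : A →ₐ[k] K := ψ.comp (IsScalarTower.toAlgHom k A (MvPolynomial ι' A))
    have h3 : (Set.range fun i => ψ (Sum.elim (fun i => X i) (fun i => MvPolynomial.C (a i)) i :
        MvPolynomial ι' A)) ⊆ (Set.range (fun i => ψA (a i)) ∪ Set.range (fun i => ψ (X i))) := by
      rintro _ ⟨i | i, rfl⟩
      · exact Or.inr ⟨i, rfl⟩
      · exact Or.inl ⟨i, rfl⟩
    exact (rk_mono k h3).trans ((rk_union_le k _ _).trans (add_le_add (h2 K ψA) (rk_range_le k _)))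

/-- rank of an algebraically dependent family -/
theorem rk_lt_of_not_algebraicIndependent {K : Type u} [Field K] [Algebra k K] {ι : Type} [Fintype ι]
    {y : ι → K} (hy : ¬ AlgebraicIndependent k y) : rk k (Set.range y) ≤ (Fintype.card ι - 1 : ℕ) := by
  by_contra hcon
  push Not at hcon
  have h1 : (Fintype.card ι : ℕ∞) ≤ rk k (Set.range y) := by
    by_cases h0 : Fintype.card ι = 0
    · rw [h0]; simp
    · have h2 : ((Fintype.card ι - 1 : ℕ) : ℕ∞) + 1 ≤ rk k (Set.range y) :=
        Order.add_one_le_of_lt hcon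
      have h3 : ((Fintype.card ι - 1 : ℕ) : ℕ∞) + 1 = (Fintype.card ι : ℕ∞) := by
        have : (Fintype.card ι - 1) + 1 = Fintype.card ι := by omega
        exact_mod_cast this
      rwa [h3] at h2
  have henc : (Set.range y).encard ≤ Fintype.card ι := by
    rw [← Set.image_univ]
    exact (Set.encard_image_le y univ).trans (by simp [Set.encard_univ])
  have hinj : Function.Injective y := by
    have h2 : (Fintype.card ι : ℕ∞) ≤ (Set.range y).encard := h1.trans (rk_le_encard k _)
    have h3 : (y '' univ).encard = (univ : Set ι).encard := by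
      rw [Set.image_univ]
      refine le_antisymm (henc.trans (by simp [Set.encard_univ])) ?_
      simpa [Set.encard_univ] using h2
    have h5 : Set.InjOn y univ := (Set.finite_univ).injOn_of_encard_image_eq h3
    exact Set.injOn_univ.1 h5
  have hindep : (AlgebraicIndependent.matroid k K).Indep (Set.range y) := by
    rw [Matroid.indep_iff_eRk_eq_encard_of_finite (Set.finite_range y)]
    refine le_antisymm (Matroid.eRk_le_encard _ _) (henc.trans h1)
  rw [AlgebraicIndependent.matroid_indep_iff] at hindep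
  apply hy
  have h6 : AlgebraicIndependent k ((Subtype.val : Set.range y → K) ∘ (Set.rangeFactorization y)) :=
    AlgebraicIndependent.comp hindep _ (by
      intro a b hab
      exact hinj (congrArg Subtype.val hab))
  exact h6

theorem smallDim_hypersurface {ι : Type} [Fintype ι] {φ : MvPolynomial ι k} (hφ : φ ≠ 0) :
    SmallDim k ((Fintype.card ι - 1 : ℕ) : ℕ∞) {q : ι → k | aeval q φ = 0} := by
  refine ⟨MvPolynomial ι k ⧸ Ideal.span {φ},
    inferInstance, inferInstance, fun i => Ideal.Quotient.mk _ (X i), ?_, ?_⟩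
  · intro q hq
    have hI : ∀ x ∈ Ideal.span {φ}, (aeval q : MvPolynomial ι k →ₐ[k] k) x = 0 := by
      intro x hx
      have : Ideal.span {φ} ≤ RingHom.ker (aeval q : MvPolynomial ι k →ₐ[k] k) := by
        rw [Ideal.span_le, Set.singleton_subset_iff, SetLike.mem_coe, RingHom.mem_ker]
        exact hq
      exact this hx
    refine ⟨Ideal.Quotient.liftₐ _ (aeval q) hI, fun i => ?_⟩
    change (aeval q : MvPolynomial ι k →ₐ[k] k) (X i) = q i
    rw [aeval_X]
  · intro K _ _ ψ
    apply rk_lt_of_not_algebraicIndependent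
    intro hind
    rw [algebraicIndependent_iff] at hind
    apply hφ
    apply hind
    have h1 : aeval (fun i => ψ (Ideal.Quotient.mk (Ideal.span {φ}) (X i))) φ =
        ψ (Ideal.Quotient.mk (Ideal.span {φ}) φ) := by
      have h2 : (aeval (fun i => ψ (Ideal.Quotient.mk (Ideal.span {φ}) (X i))) :
          MvPolynomial ι k →ₐ[k] K) = ψ.comp (Ideal.Quotient.mkₐ k (Ideal.span {φ})) := by
        ext i; simp
      rw [h2]; rfl
    rw [h1, Ideal.Quotient.eq_zero_iff_mem.2 (Ideal.mem_span_singleton_self φ), map_zero]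

/-- `{z | z ∘ inl = 0, z ∘ inr ∈ Z}` -/
theorem smallDim_zero_sum {M N : Type} {z : ℕ∞} {Z : Set (N → k)} (hZ : SmallDim k z Z) :
    SmallDim k z {w : M ⊕ N → k | (∀ m, w (Sum.inl m) = 0) ∧ (fun n => w (Sum.inr n)) ∈ Z} := by
  obtain ⟨A, i1, i2, a, h1, h2⟩ := hZ
  refine ⟨A, i1, i2, Sum.elim (fun _ => 0) a, ?_, ?_⟩
  · rintro w ⟨hw, hw'⟩
    obtain ⟨χ, hχ⟩ := h1 _ hw'
    refine ⟨χ, ?_⟩
    rintro (m | n)
    · simp [hw m]
    · simp [hχ n]
  · intro K _ _ ψ
    refine (rk_le_of_subset_cl k (t := Set.range fun i => ψ (a i)) ?_).trans (h2 K ψ)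
    rintro _ ⟨m | n, rfl⟩
    · rw [← mem_clField]
      simp only [Sum.elim_inl, map_zero]
      exact zero_mem _
    · exact subset_cl k _ ⟨n, rfl⟩

section RkLE

variable {A : Type u} [CommRing A] [Algebra k A]

/-- a ring unramified over a polynomial ring. -/
theorem rkLE_of_unramified {σ : Type} [Fintype σ] [Algebra (MvPolynomial σ k) A]
    [IsScalarTower k (MvPolynomial σ k) A] [Algebra.FormallyUnramified (MvPolynomial σ k) A]
    [Algebra.FiniteType (MvPolynomial σ k) A] : RkLE k A (Fintype.card σ) := by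
  intro K _ _ ψ
  let ψP : MvPolynomial σ k →ₐ[k] K := ψ.comp (IsScalarTower.toAlgHom k (MvPolynomial σ k) A)
  have h1 : Set.range ψ ⊆ cl k (Set.range fun i => ψP (X i)) := by
    -- work over the field `E = cl k (range (ψ ∘ t))`
    let E := clField k (Set.range fun i => ψP (X i))
    have hE : ∀ p, ψP p ∈ E := by
      intro p
      induction p using MvPolynomial.induction_on with
      | C a =>
        have : ψP (MvPolynomial.C a) = algebraMap k K a := ψP.commutes a
        rw [this]
        exact E.algebraMap_mem a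
      | add p q hp hq => rw [map_add]; exact add_mem hp hq
      | mul_X p i hp =>
        rw [map_mul]
        refine mul_mem hp ?_
        rw [mem_clField]
        exact subset_cl k _ ⟨i, rfl⟩
    let φ : MvPolynomial σ k →+* E := ψP.toRingHom.codRestrict E.toSubfield.toSubring hE
    letI : Algebra (MvPolynomial σ k) E := φ.toAlgebra
    letI : Algebra (MvPolynomial σ k) K := ψP.toRingHom.toAlgebra
    have : IsScalarTower (MvPolynomial σ k) E K := IsScalarTower.of_algebraMap_eq (fun p => rfl)
    have hfin : Module.Finite E (E ⊗[MvPolynomial σ k] A) :=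
      Algebra.FormallyUnramified.finite_of_free E (E ⊗[MvPolynomial σ k] A)
    let ψ' : A →ₐ[MvPolynomial σ k] K :=
      { toRingHom := ψ.toRingHom
        commutes' := fun p => rfl }
    let Ψ : E ⊗[MvPolynomial σ k] A →ₐ[E] K :=
      Algebra.TensorProduct.lift (Algebra.ofId E K) ψ' (fun _ _ => Commute.all _ _)
    rintro _ ⟨a, rfl⟩
    have h2 : ψ a = Ψ (1 ⊗ₜ a) := by
      simp [Ψ, ψ']
    apply clField_isAlgebraic_mem
    rw [h2]
    have h3 : IsIntegral E ((1 : E) ⊗ₜ[MvPolynomial σ k] a) := Algebra.IsIntegral.isIntegral _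
    exact (h3.map Ψ).isAlgebraic
  refine (rk_le_of_subset_cl k h1).trans ?_
  exact rk_range_le k _

/-- algebraic independence of `x` together with a nonzero element specialising to `0`. -/
theorem aeval_option_ne_zero [IsDomain A] {K : Type u} [Field K] [Algebra k K] (ψ : A →ₐ[k] K)
    {J : Type*} (x : J → A) (hx : AlgebraicIndependent k (fun j => ψ (x j))) (f : A) (hf0 : f ≠ 0)
    (hψf : ψ f = 0) (P : MvPolynomial (Option J) k) (hP : P ≠ 0) :
    aeval (fun o : Option J => o.elim f x) P ≠ 0 := by
  let Q := MvPolynomial.optionEquivLeft k J P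
  have hQ : Q ≠ 0 := by
    simpa [Q] using hP
  let n := Q.natTrailingDegree
  have hdvd : Polynomial.X ^ n ∣ Q :=
    Polynomial.X_pow_dvd_iff.2 fun d hd => Polynomial.coeff_eq_zero_of_lt_natTrailingDegree hd
  obtain ⟨Q', hQ'⟩ := hdvd
  have hQ'0 : Q'.coeff 0 ≠ 0 := by
    have h1 : Q.coeff n = Q'.coeff 0 := by
      rw [hQ']
      simpa using Polynomial.coeff_X_pow_mul Q' n 0
    rw [← h1]
    exact mt Polynomial.trailingCoeff_eq_zero.1 hQ
  let E : Polynomial (MvPolynomial J k) →ₐ[k] A := 
    { toRingHom := Polynomial.eval₂RingHom (aeval x : MvPolynomial J k →ₐ[k] A).toRingHom f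
      commutes' := fun c => by
        change Polynomial.eval₂ (aeval x : MvPolynomial J k →ₐ[k] A).toRingHom f _ = _
        rw [Polynomial.algebraMap_apply, Polynomial.eval₂_C]
        simp }
  have hE : (aeval (fun o : Option J => o.elim f x) : MvPolynomial (Option J) k →ₐ[k] A) =
      E.comp (MvPolynomial.optionEquivLeft k J).toAlgHom := by
    ext o
    cases o with
    | none => simp [E]
    | some j => simp [E]
  intro h0
  have h1 : E Q = 0 := by
    rw [hE] at h0
    exact h0
  rw [hQ', map_mul, map_pow] at h1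
  have hEX : E Polynomial.X = f := by simp [E]
  rw [hEX] at h1
  have h2 : E Q' = 0 := (mul_eq_zero.1 h1).resolve_left (pow_ne_zero _ hf0)
  have h3 : ψ (E Q') = aeval (fun j => ψ (x j)) (Q'.coeff 0) := by
    have h4 : Q' = Polynomial.C (Q'.coeff 0) + Polynomial.X * Q'.divX := by
      rw [add_comm]; exact (Polynomial.X_mul_divX_add Q').symm
    conv_lhs => rw [h4]
    rw [map_add, map_mul, map_add, map_mul, hEX, hψf, zero_mul, add_zero]
    have h5 : E (Polynomial.C (Q'.coeff 0)) = aeval x (Q'.coeff 0) := by simp [E]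
    rw [h5, ← AlgHom.comp_apply, comp_aeval]
  rw [h2, map_zero] at h3
  exact hQ'0 ((algebraicIndependent_iff.1 hx) _ h3.symm)

/-- drop of dimension -/
theorem RkLE.quotient_of_isDomain [IsDomain A] {m : ℕ} (h : RkLE k A ((m + 1 : ℕ) : ℕ∞)) (I : Ideal A)
    (hI : I ≠ ⊥) : RkLE k (A ⧸ I) m := by
  intro K _ _ ψ
  obtain ⟨f, hfI, hf0⟩ := Submodule.exists_mem_ne_zero_of_ne_bot hI
  let ψA : A →ₐ[k] K := ψ.comp (Ideal.Quotient.mkₐ k I)
  have hψf : ψA f = 0 := by
    change ψ (Ideal.Quotient.mk I f) = 0
    rw [Ideal.Quotient.eq_zero_iff_mem.2 hfI, map_zero]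
  have hrange : Set.range ψ = Set.range ψA := by
    ext x
    constructor
    · rintro ⟨a, rfl⟩
      obtain ⟨a, rfl⟩ := Ideal.Quotient.mk_surjective a
      exact ⟨a, rfl⟩
    · rintro ⟨a, rfl⟩
      exact ⟨Ideal.Quotient.mk I a, rfl⟩
  rw [hrange]
  by_contra hcon
  push Not at hcon
  have hle : ((m + 1 : ℕ) : ℕ∞) ≤ rk k (Set.range ψA) := by
    have := Order.add_one_le_of_lt hcon
    exact_mod_cast this
  obtain ⟨J, hJ, hJind, hJcard⟩ := Matroid.le_eRk_iff.1 hle
  rw [AlgebraicIndependent.matroid_indep_iff] at hJind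
  -- lift `J` to `A`
  have hJfin : J.Finite := by
    rw [← Set.encard_lt_top_iff, hJcard]; exact ENat.natCast_lt_top _
  have : Fintype J := hJfin.fintype
  have hJc : Fintype.card J = m + 1 := by
    have : J.encard = (Fintype.card J : ℕ∞) := by
      rw [Set.encard_eq_coe_toFinset_card, Set.toFinset_card]
    rw [this] at hJcard
    exact_mod_cast hJcard
  choose x hx using fun j : J => hJ j.2
  let F := FractionRing A
  let y : Option J → F := fun o => o.elim (algebraMap A F f) (fun j => algebraMap A F (x j))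
  have hy : AlgebraicIndependent k y := by
    rw [algebraicIndependent_iff]
    intro P hP
    by_contra hP0
    have hxi : AlgebraicIndependent k (fun j => ψA (x j)) := by
      have : (fun j => ψA (x j)) = ((↑) : J → K) := funext hx
      rw [this]
      exact hJind
    apply aeval_option_ne_zero ψA x hxi f hf0 hψf P hP0
    have h8 : algebraMap A F (aeval (fun o : Option J => o.elim f x) P) = aeval y P := by
      rw [← MvPolynomial.aeval_algebraMap_apply]
      congr 2
      funext o
      cases o <;> rfl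
    rw [hP] at h8
    exact (IsFractionRing.injective A F) (by rw [h8, map_zero])
  have h5 := h F (IsScalarTower.toAlgHom k A F)
  have h6 : rk k (Set.range y) ≤ ((m + 1 : ℕ) : ℕ∞) := by
    refine (rk_mono k ?_).trans h5
    rintro _ ⟨o, rfl⟩
    cases o with
    | none => exact ⟨f, rfl⟩
    | some j => exact ⟨x j, rfl⟩
  rw [rk_range_of_algebraicIndependent k hy] at h6
  have h7 : Fintype.card (Option J) ≤ m + 1 := by exact_mod_cast h6
  rw [Fintype.card_option, hJc] at h7
  omega

end RkLE

end Groth.Agent.Lefpen.H701.SmallDim2
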